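import Groth.Agent.H27LogNCD.Coords
import Groth.Agent.H29Omega.StalkKaehler
import Mathlib

/-! # Sections of a universal receptacle over an affine open are spanned by differentials -/

set_option autoImplicit false
set_option linter.style.haveILetI false
set_option backward.isDefEq.respectTransparency false

universe u

open CategoryTheory CategoryTheory.Limits AlgebraicGeometry TopologicalSpace Opposite

namespace Groth.Agent.H27LogTwist

open Groth.Agent.H27LogNCD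

variable {X S : Scheme.{u}}

theorem exists_sum_der_qs {f : X ⟶ S} [QuasiSeparated f] {Ω : X.Modules} (d : OmegaSh.Der f Ω)
    (hd : OmegaSh.IsUniversal d) {U : X.Opens} (hU : IsAffineOpen U) {V : S.Opens} (hV : IsAffineOpen V)
    (h : U ≤ f ⁻¹ᵁ V) (η : Γ(Ω, U)) :
    ∃ l : Γ(X, U) →₀ Γ(X, U), η = l.sum fun b c => c • d.app U b := by
  letI := (f.appLE V U h).hom.toAlgebra
  obtain ⟨κ, rfl⟩ := (bijective_desc_qs d hd hU hV h).2 η
  have hκ : (κ : Ω[Γ(X, U)⁄Γ(S, V)]) ∈ Submodule.span Γ(X, U) (Set.range (KaehlerDifferential.D Γ(S, V) Γ(X, U))) := by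
    rw [KaehlerDifferential.span_range_derivation]; trivial
  obtain ⟨l, hl⟩ := Finsupp.mem_span_range_iff_exists_finsupp.1 hκ
  refine ⟨l, ?_⟩
  subst hl
  let L : Ω[Γ(X, U)⁄Γ(S, V)] →ₗ[Γ(X, U)] Γ(Ω, U) := (H17.PrinOmega.derOn f d V U h).desc.hom
  have hL : ∀ b, L (KaehlerDifferential.D _ _ b) = d.app U b := fun b => (H17.PrinOmega.derOn f d V U h).desc_d b
  show L (l.sum fun b c => c • KaehlerDifferential.D _ _ b) = _
  rw [map_finsuppSum]
  exact Finsupp.sum_congr fun b _ => by rw [map_smul, hL]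

theorem mem_span_der {f : X ⟶ S} {Ω : X.Modules} (d : OmegaSh.Der f Ω) (hd : OmegaSh.IsUniversal d)
    {U : X.Opens} (hU : IsAffineOpen U) {V : S.Opens} (hV : IsAffineOpen V) (h : U ≤ f ⁻¹ᵁ V) (η : Γ(Ω, U)) :
    η ∈ Submodule.span Γ(X, U) (Set.range (d.app U)) := by
  classical
  haveI : IsAffine U.toScheme := hU
  suffices key : ∀ (U' : X.Opens) (_ : U' = U.ι ''ᵁ ⊤) (_ : U' ≤ f ⁻¹ᵁ V) (η : Γ(Ω, U')),
      η ∈ Submodule.span Γ(X, U') (Set.range (d.app U')) from
    key U (U.ι_image_top).symm h η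
  rintro U' rfl h η
  let j := U.ι
  have hle : (⊤ : U.toScheme.Opens) ≤ (j ≫ f) ⁻¹ᵁ V := fun y _ => h ⟨y, trivial, rfl⟩
  obtain ⟨l, hl⟩ := exists_sum_der_qs (f := j ≫ f) (H29Omega.restrDer j d) (H29Omega.isUniversal_restrDer j d hd)
    (isAffineOpen_top U.toScheme) hV hle ((Ω.restrictAppIso j ⊤).inv η)
  have h1 := congrArg (Ω.restrictAppIso j ⊤).hom hl
  rw [Iso.inv_hom_id_apply, map_finsuppSum] at h1
  rw [h1]
  refine Submodule.sum_mem _ fun b _ => ?_
  beta_reduce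
  erw [Scheme.Modules.smul_restrictAppIso_hom_apply]
  refine Submodule.smul_mem _ _ (Submodule.subset_span ⟨(j.appIso ⊤).inv.hom b, ?_⟩)
  show _ = (Ω.restrictAppIso j ⊤).hom ((Ω.restrictAppIso j ⊤).inv (d.app (j ''ᵁ ⊤) ((j.appIso ⊤).inv.hom b)))
  rw [Iso.inv_hom_id_apply]

end Groth.Agent.H27LogTwist
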