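import Groth.Agent.H27LogTwist.LocFree
import Groth.Agent.H27LogTwist.Span
import Groth.Agent.H27LogNCD.Residue
import Groth.Agent.H29Blow.IdealMod
import Mathlib

/-! # Section lemmas for tensor products with `O_D` and with an ideal -/

set_option autoImplicit false
set_option linter.style.haveILetI false
set_option backward.isDefEq.respectTransparency false

universe u

open CategoryTheory CategoryTheory.Limits AlgebraicGeometry TopologicalSpace Opposite
open scoped TensorProduct

namespace Groth.Agent.H27LogTwist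

open Groth.Agent.H27LogNCD

variable {X S : Scheme.{u}} {r : ℕ} {D : Fin r → X.IdealSheafData}

/-- restriction of sections of a module -/
noncomputable abbrev rm (M : X.Modules) {U V : X.Opens} (h : V ≤ U) (s : Γ(M, U)) : Γ(M, V) :=
  M.presheaf.map (homOfLE h).op s

theorem rm_add (M : X.Modules) {U V : X.Opens} (h : V ≤ U) (s t : Γ(M, U)) : rm M h (s + t) = rm M h s + rm M h t :=
  map_add _ s t

theorem rm_smul (M : X.Modules) {U V : X.Opens} (h : V ≤ U) (c : Γ(X, U)) (s : Γ(M, U)) :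
    rm M h (c • s) = rs h c • rm M h s := Scheme.Modules.map_smul M (homOfLE h) c s

/-- `b` is a basis of `M` on every open below `U`. -/
def OBas (M : X.Modules) (U : X.Opens) {n : ℕ} (b : Fin n → Γ(M, U)) : Prop :=
  ∀ (V : X.Opens) (h : V ≤ U), Function.Bijective fun c : Fin n → Γ(X, V) => ∑ j, c j • rm M h (b j)

theorem OBas.res {M : X.Modules} {U V : X.Opens} {n : ℕ} {b : Fin n → Γ(M, U)} (hb : OBas M U b) (h : V ≤ U) :
    OBas M V fun j => rm M h (b j) := by
  intro W e
  have := hb W (e.trans h)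
  simp only [rm, map_mapM] at this ⊢
  exact this

theorem exists_obas {M : X.Modules} (hM : FlatMod.IsFinLocFree M) (x : X) :
    ∃ (U : X.Opens) (n : ℕ) (b : Fin n → Γ(M, U)), x ∈ U ∧ OBas M U b := by
  obtain ⟨U, n, hx, ⟨e⟩⟩ := hM x
  obtain ⟨b, hb⟩ := exists_basis_of_iso M e
  exact ⟨U, n, b, hx, hb⟩

/-- The basis over an open. -/
noncomputable def OBas.basis {M : X.Modules} {U : X.Opens} {n : ℕ} {b : Fin n → Γ(M, U)} (hb : OBas M U b)
    {V : X.Opens} (h : V ≤ U) : Module.Basis (Fin n) Γ(X, V) Γ(M, V) :=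
  Module.Basis.ofEquivFun (LinearEquiv.ofBijective
    (Fintype.linearCombination Γ(X, V) fun j => rm M h (b j)) (by
      convert hb V h using 1
      funext c; simp [Fintype.linearCombination_apply])).symm

theorem OBas.basis_apply {M : X.Modules} {U : X.Opens} {n : ℕ} {b : Fin n → Γ(M, U)} (hb : OBas M U b)
    {V : X.Opens} (h : V ≤ U) (j : Fin n) : hb.basis h j = rm M h (b j) := by
  classical
  simp [OBas.basis, Fintype.linearCombination_apply, Pi.single_apply, ite_smul]

theorem OBas.finite {M : X.Modules} {U : X.Opens} {n : ℕ} {b : Fin n → Γ(M, U)} (hb : OBas M U b) :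
    Module.Finite Γ(X, U) Γ(M, U) := Module.Finite.of_basis (hb.basis le_rfl)

/-- Equality with a multiple of a regular function can be checked locally. -/
theorem dvd_of_locally {I : Fin r} {U : X.Opens} (hU : IsAffineOpen U) {g : Γ(X, U)}
    (hI : (D I).ideal ⟨U, hU⟩ = Ideal.span {g}) (c : Γ(X, U))
    (hc : ∀ x ∈ U, ∃ (V : X.Opens) (_ : IsAffineOpen V) (h : V ≤ U), x ∈ V ∧ rs h g ∣ rs h c) : g ∣ c := by
  have h0 : cls D I U c = 0 := by
    refine H11Tilde.eq_of_locally _ _ fun x hx => ?_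
    obtain ⟨V, hV, h, hxV, hdvd⟩ := hc x hx
    refine ⟨V, h, hxV, ?_⟩
    rw [map_zero, ← cls_res]
    refine cls_eq_zero hV ?_
    rw [ideal_res hU hV h hI]
    exact Ideal.mem_span_singleton.2 hdvd
  have := mem_ideal_of_cls_eq_zero hU h0
  rwa [hI, Ideal.mem_span_singleton] at this

section quot

variable (E : X.Modules) (i : Fin r)

/-- `e ↦ e ⊗ 1` in `E ⊗ O_D` -/
noncomputable def pimap (U : X.Opens) : Γ(E, U) →ₗ[Γ(X, U)] Γ(CohB1.tensorMod E (ClSub.quotMod (D i)), U) where
  toFun e := H11Ample.tm e (cls D i U 1)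
  map_add' e e' := H11Ample.tm_add_left e e' _
  map_smul' c e := H11Ample.tm_smul_left c e _

theorem pimap_res {U V : X.Opens} (h : V ≤ U) (e : Γ(E, U)) :
    pimap (D := D) E i V (rm E h e) = rm _ h (pimap (D := D) E i U e) := by
  show H11Ample.tm _ _ = (CohB1.tensorMod E (ClSub.quotMod (D i))).presheaf.map _ (H11Ample.tm _ _)
  rw [H11Ample.tm_res, ← cls_res]
  simp [rs]

theorem unit_comp_app (U : X.Opens) (e : Γ(E, U)) :
    ((SecTwist.unitorR E).inv ≫ KoszTw.tensorMap (𝟙 E) (ClSub.toSubscheme (D i))).app U e =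
      pimap (D := D) E i U e := by
  have hinv : (SecTwist.unitorR E).inv.app U e = H11Ample.tm e (OmegaSh.strSect X U (1 : Γ(X, U))) := by
    apply (ConcreteCategory.bijective_of_isIso ((SecTwist.unitorR E).hom.app U)).1
    refine Eq.trans ?_ (SecTwist.unitorR_tmul E U e 1).symm
    exact (congr($(congrArg (fun φ : E ⟶ E => φ.app U) (SecTwist.unitorR E).inv_hom_id) e)).trans
      (one_smul Γ(X, U) e).symm
  simp only [Scheme.Modules.Hom.comp_app, ConcreteCategory.comp_apply]
  rw [hinv]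
  erw [KoszTw.tensorMap_tmul]
  rfl

theorem pimap_locally_surjective {U : X.Opens} (z : Γ(CohB1.tensorMod E (ClSub.quotMod (D i)), U)) :
    ∀ x ∈ U, ∃ (V : X.Opens) (h : V ≤ U), x ∈ V ∧ ∃ e, pimap (D := D) E i V e = rm _ h z := by
  intro x hx
  obtain ⟨V', h', hxV', t, ht⟩ := exists_locally_pre E (ClSub.quotMod (D i)) z x hx
  obtain ⟨V, hV, hxV, hle⟩ := exists_isAffineOpen_mem_and_subset hxV'
  refine ⟨V, hle.trans h', hxV, ?_⟩
  suffices ∃ e, pimap (D := D) E i V e = rm (CohB1.tensorMod E (ClSub.quotMod (D i))) hle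
      (((SecTwist.toTensor E (ClSub.quotMod (D i))).app (op V')).hom t) by
    obtain ⟨e, he⟩ := this
    exact ⟨e, he.trans (by rw [ht]; exact map_mapM h' hle z)⟩
  clear ht
  induction t using TensorProduct.induction_on with
  | zero => exact ⟨0, by simp⟩
  | tmul m c =>
    change ∃ e, pimap (D := D) E i V e = rm _ hle (H11Ample.tm (show Γ(E, V') from m) (show Γ(ClSub.quotMod (D i), V') from c))
    obtain ⟨a, ha⟩ := cls_surjective hV i (rm (ClSub.quotMod (D i)) hle c)
    refine ⟨a • rm E hle m, ?_⟩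
    refine Eq.trans ?_ (H11Ample.tm_res hle _ _).symm
    rw [map_smul]
    show a • H11Ample.tm _ (cls D i V 1) = _
    rw [← H11Ample.tm_smul_right, ← cls_mul, mul_one, ha]
  | add t t' ht ht' =>
    obtain ⟨e, he⟩ := ht
    obtain ⟨e', he'⟩ := ht'
    exact ⟨e + e', by rw [map_add, he, he', map_add]; exact (map_add _ _ _).symm⟩

/-- kernel of `e ↦ e ⊗ 1`, locally -/
theorem exists_eq_smul_of_pimap_eq_zero {U : X.Opens} (hU : IsAffineOpen U) {g : Γ(X, U)}
    (hI : (D i).ideal ⟨U, hU⟩ = Ideal.span {g}) {e : Γ(E, U)} (he : pimap (D := D) E i U e = 0) :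
    ∀ x ∈ U, ∃ (V : X.Opens) (_ : IsAffineOpen V) (h : V ≤ U), x ∈ V ∧ ∃ e', rm E h e = rs h g • e' := by
  intro x hx
  haveI : Presheaf.IsLocallyInjective (Opens.grothendieckTopology X)
      ((PresheafOfModules.toPresheaf _).map (SecTwist.toTensor E (ClSub.quotMod (D i)))) := by
    change Presheaf.IsLocallyInjective (Opens.grothendieckTopology X)
      ((PresheafOfModules.toPresheaf _).map ((PresheafOfModules.sheafificationAdjunction
        (R := X.ringCatSheaf) (𝟙 X.ringCatSheaf.obj)).unit.app _))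
    rw [PresheafOfModules.toPresheaf_map_sheafificationAdjunction_unit_app]
    exact ((Opens.grothendieckTopology X).W_toSheafify _).isLocallyInjective
  let t : (CohB1.tensorPre E (ClSub.quotMod (D i))).obj (op U) :=
    (show E.val.obj (op U) from e) ⊗ₜ (show (ClSub.quotMod (D i)).val.obj (op U) from cls D i U 1)
  have hsieve := Presheaf.equalizerSieve_mem (Opens.grothendieckTopology X)
    ((PresheafOfModules.toPresheaf _).map (SecTwist.toTensor E (ClSub.quotMod (D i)))) t 0
    (by rw [map_zero]; exact he)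
  obtain ⟨V', k, hk, hxV'⟩ := hsieve x hx
  obtain ⟨V, hV, hxV, hle⟩ := exists_isAffineOpen_mem_and_subset hxV'
  refine ⟨V, hV, hle.trans k.le, hxV, ?_⟩
  have h0 : (show E.val.obj (op V) from rm E (hle.trans k.le) e) ⊗ₜ[Γ(X, V)]
      (show (ClSub.quotMod (D i)).val.obj (op V) from cls D i V 1) = 0 := by
    have h2 := congrArg ((CohB1.tensorPre E (ClSub.quotMod (D i))).presheaf.map (homOfLE hle).op) hk
    rw [map_zero, map_zero] at h2
    rw [show cls D i V 1 = rm (ClSub.quotMod (D i)) hle (rm (ClSub.quotMod (D i)) k.le (cls D i U 1)) by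
      rw [rm, rm, ← cls_res, ← cls_res]; simp [rs],
      show rm E (hle.trans k.le) e = rm E hle (rm E k.le e) from (map_mapM k.le hle e).symm]
    exact h2
  let β : Γ(X, V) →ₗ[Γ(X, V)] Γ(ClSub.quotMod (D i), V) :=
    { toFun := cls D i V, map_add' := cls_add i V, map_smul' := fun c a => cls_mul i V c a }
  have hexact : Function.Exact (LinearMap.mulLeft Γ(X, V) (rs (hle.trans k.le) g)) β := fun a => by
    constructor
    · intro ha
      have := mem_ideal_of_cls_eq_zero hV ha
      rw [ideal_res hU hV (hle.trans k.le) hI, Ideal.mem_span_singleton] at this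
      obtain ⟨c, rfl⟩ := this
      exact ⟨c, rfl⟩
    · rintro ⟨c, rfl⟩
      exact cls_eq_zero hV (by
        rw [ideal_res hU hV (hle.trans k.le) hI]; exact Ideal.mem_span_singleton.2 (dvd_mul_right _ _))
  have hten := lTensor_exact (Γ(E, V)) hexact (fun c => cls_surjective hV i c)
  obtain ⟨y, hy⟩ := (hten ((show Γ(E, V) from rm E (hle.trans k.le) e) ⊗ₜ[Γ(X, V)] (1 : Γ(X, V)))).1 h0
  refine ⟨TensorProduct.rid Γ(X, V) _ y, ?_⟩
  have h3 := congrArg (TensorProduct.rid Γ(X, V) Γ(E, V)) hy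
  rw [TensorProduct.rid_tmul, one_smul] at h3
  refine h3.symm.trans ?_
  rw [← map_smul]
  congr 1
  clear hy h3
  induction y using TensorProduct.induction_on with
  | zero => simp
  | tmul m c => rw [LinearMap.lTensor_tmul, LinearMap.mulLeft_apply, ← smul_eq_mul, TensorProduct.tmul_smul]
  | add a b ha hb => rw [map_add, smul_add, ha, hb]

/-- kernel of `e ↦ e ⊗ 1`, when `E` has a basis -/
theorem pimap_ker {U : X.Opens} (hU : IsAffineOpen U) {g : Γ(X, U)}
    (hI : (D i).ideal ⟨U, hU⟩ = Ideal.span {g}) {n : ℕ} {b : Fin n → Γ(E, U)} (hb : OBas E U b) {e : Γ(E, U)}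
    (he : pimap (D := D) E i U e = 0) : ∃ e', e = g • e' := by
  obtain ⟨c, rfl⟩ : ∃ c : Fin n → Γ(X, U), ∑ j, c j • b j = e := by
    obtain ⟨c, hc⟩ := (hb U le_rfl).2 e
    refine ⟨c, ?_⟩
    simpa [rm] using hc
  have hdvd : ∀ j, g ∣ c j := fun j => dvd_of_locally hU hI (c j) fun x hx => by
    obtain ⟨V, hV, h, hxV, e', he'⟩ := exists_eq_smul_of_pimap_eq_zero E i hU hI he x hx
    obtain ⟨c', rfl⟩ := (hb V h).2 e'
    refine ⟨V, hV, h, hxV, c' j, congrFun ((hb V h).1 (a₁ := fun j => rs h (c j)) (a₂ := fun j => rs h g * c' j) ?_) j⟩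
    simp only [rm, map_sum, Scheme.Modules.map_smul, Finset.smul_sum, smul_smul] at he' ⊢
    exact he'
  choose q hq using hdvd
  exact ⟨∑ j, q j • b j, by simp only [Finset.smul_sum, smul_smul, ← hq]⟩

end quot

section ideal

variable (E : X.Modules) (I : X.IdealSheafData)

/-- `e ↦ e ⊗ s` for the section `s` of an ideal -/
noncomputable def jmap {U : X.Opens} (s : Γ(ClSub.idealMod I, U)) :
    Γ(E, U) →ₗ[Γ(X, U)] Γ(CohB1.tensorMod E (ClSub.idealMod I), U) where
  toFun e := H11Ample.tm e s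
  map_add' e e' := H11Ample.tm_add_left e e' s
  map_smul' c e := H11Ample.tm_smul_left c e s

theorem jmap_res {U V : X.Opens} (h : V ≤ U) (s : Γ(ClSub.idealMod I, U)) (e : Γ(E, U)) :
    rm _ h (jmap E I s e) = jmap E I (rm _ h s) (rm E h e) := H11Ample.tm_res h e s

theorem incl_jmap {U : X.Opens} (s : Γ(ClSub.idealMod I, U)) (e : Γ(E, U)) :
    (LogNCD.inclTwist E I).app U (jmap E I s e) = OmegaSh.idealSect I U s • e := by
  show (SecTwist.unitorR E).hom.app U ((KoszTw.tensorMap (𝟙 E) (ClSub.idealModι I)).app U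
    (SecTwist.tmul E (ClSub.idealMod I) U e s)) = _
  rw [KoszTw.tensorMap_tmul]
  exact SecTwist.unitorR_tmul E U e (OmegaSh.idealSect I U s)

/-- Locally every section of `E ⊗ I` is `e ⊗ s` for a generator `s`. -/
theorem jmap_locally_surjective {U : X.Opens} (hU : IsAffineOpen U) {c : Γ(X, U)}
    (hI : I.ideal ⟨U, hU⟩ = Ideal.span {c}) (s : Γ(ClSub.idealMod I, U)) (hs : OmegaSh.idealSect I U s = c)
    (z : Γ(CohB1.tensorMod E (ClSub.idealMod I), U)) :
    ∀ x ∈ U, ∃ (V : X.Opens) (h : V ≤ U), x ∈ V ∧ ∃ e, jmap E I (rm _ h s) e = rm _ h z := by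
  intro x hx
  obtain ⟨V', h', hxV', t, ht⟩ := exists_locally_pre E (ClSub.idealMod I) z x hx
  obtain ⟨V, hV, hxV, hle⟩ := exists_isAffineOpen_mem_and_subset hxV'
  refine ⟨V, hle.trans h', hxV, ?_⟩
  suffices ∃ e, jmap E I (rm _ (hle.trans h') s) e = rm (CohB1.tensorMod E (ClSub.idealMod I)) hle
      (((SecTwist.toTensor E (ClSub.idealMod I)).app (op V')).hom t) by
    obtain ⟨e, he⟩ := this
    exact ⟨e, he.trans (by rw [ht]; exact map_mapM h' hle z)⟩
  clear ht
  induction t using TensorProduct.induction_on with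
  | zero => exact ⟨0, by simp⟩
  | tmul m y =>
    change ∃ e, _ = rm _ hle (H11Ample.tm (show Γ(E, V') from m) (show Γ(ClSub.idealMod I, V') from y))
    have hmem : OmegaSh.idealSect I V (rm _ hle y) ∈ I.ideal ⟨V, hV⟩ :=
      (H29Blow.mem_ideal_iff_exists_idealSect I hV _).2 ⟨_, rfl⟩
    rw [ideal_res hU hV (hle.trans h') hI, Ideal.mem_span_singleton'] at hmem
    obtain ⟨a, ha⟩ := hmem
    have hy : rm _ hle y = a • rm _ (hle.trans h') s := H29Blow.idealSect_injective I V (by
      rw [← ha, H29Blow.idealSect_smul, H29Blow.idealSect_res, hs])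
    refine ⟨a • rm E hle m, ?_⟩
    refine Eq.trans ?_ (H11Ample.tm_res hle _ _).symm
    rw [map_smul]
    show a • H11Ample.tm _ _ = H11Ample.tm _ (rm _ hle y)
    rw [hy, H11Ample.tm_smul_right]
  | add t t' ht ht' =>
    obtain ⟨e, he⟩ := ht
    obtain ⟨e', he'⟩ := ht'
    exact ⟨e + e', by rw [map_add, he, he', map_add]; exact (map_add _ _ _).symm⟩

end ideal

end Groth.Agent.H27LogTwist
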