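import Groth.Agent.H15Site.ResGod.Godement
import Groth.Agent.H15Site.AbComplexElem

/-! # A monomorphism of complexes of sheaves with locally acyclic cokernel is a quasi-isomorphism -/

set_option autoImplicit false
set_option backward.isDefEq.respectTransparency false
set_option backward.isDefEq.respectTransparency.types false

universe u

open CategoryTheory CategoryTheory.Limits Opposite TopologicalSpace

namespace Groth.Agent.H27LogTwist

open Groth.Agent.H15Site.ResGod Groth.Agent.H10Coh

attribute [local instance 10000] hasSheafifyAb hasWeakSheafifyAb hasExtAb enoughInjAb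

variable {X : TopCat.{u}} {ι : Type} {c : ComplexShape ι}

theorem quasiIso_of_St {F G : HomologicalComplex (CohTop.Ab X) c} (φ : F ⟶ G)
    (h : ∀ x : X, QuasiIso (((St x).mapHomologicalComplex c).map φ)) : QuasiIso φ := by
  rw [quasiIso_iff]
  intro n
  rw [quasiIsoAt_iff, ShortComplex.quasiIso_iff]
  let k := ShortComplex.homologyMap ((HomologicalComplex.shortComplexFunctor _ c n).map φ)
  suffices ∀ x : X, IsIso ((St x).map k) by
    have : ∀ x : X, IsIso ((TopCat.Presheaf.stalkFunctor AddCommGrpCat.{u} x).map k.hom) := this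
    exact TopCat.Presheaf.isIso_of_stalkFunctor_map_iso (C := AddCommGrpCat.{u}) k
  intro x
  have h1 : IsIso (ShortComplex.homologyMap ((St x).mapShortComplex.map
      ((HomologicalComplex.shortComplexFunctor _ c n).map φ))) := by
    have := (h x).quasiIsoAt n
    rw [quasiIsoAt_iff, ShortComplex.quasiIso_iff] at this
    exact this
  exact (NatIso.isIso_map_iff (ShortComplex.homologyFunctorIso (St x)) _).1 h1

/-- germ of a section -/
noncomputable abbrev germ (F : CohTop.Ab X) (U : Opens X) (x : X) (hx : x ∈ U) :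
    F.obj.obj (op U) ⟶ (St x).obj F :=
  TopCat.Presheaf.germ (F := F.obj) U x hx

theorem germ_map {F G : CohTop.Ab X} (f : F ⟶ G) (U : Opens X) (x : X) (hx : x ∈ U) (s : F.obj.obj (op U)) :
    ((St x).map f) (germ F U x hx s) = germ G U x hx (f.hom.app (op U) s) :=
  TopCat.Presheaf.stalkFunctor_map_germ_apply U x hx f.hom s

theorem germ_res (F : CohTop.Ab X) {U V : Opens X} (i : V ≤ U) (x : X) (hx : x ∈ V) (s : F.obj.obj (op U)) :
    germ F V x hx (F.obj.map (homOfLE i).op s) = germ F U x (i hx) s :=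
  TopCat.Presheaf.germ_res_apply (F := F.obj) (homOfLE i) x hx s

theorem naturality' {F G : CohTop.Ab X} (f : F ⟶ G) {U V : Opens X} (i : V ≤ U) (s : F.obj.obj (op U)) :
    f.hom.app (op V) (F.obj.map (homOfLE i).op s) = G.obj.map (homOfLE i).op (f.hom.app (op U) s) :=
  ConcreteCategory.congr_hom (f.hom.naturality (homOfLE i).op) s

theorem germ_exists (F : CohTop.Ab X) (x : X) (a : (St x).obj F) :
    ∃ (U : Opens X) (hx : x ∈ U) (s : F.obj.obj (op U)), germ F U x hx s = a :=
  TopCat.Presheaf.exists_germ_eq (F := F.obj) a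

theorem germ_eq (F : CohTop.Ab X) {U U' : Opens X} (x : X) (hx : x ∈ U) (hx' : x ∈ U') (s : F.obj.obj (op U))
    (s' : F.obj.obj (op U')) (h : germ F U x hx s = germ F U' x hx' s') :
    ∃ (W : Opens X) (_ : x ∈ W) (i : W ≤ U) (i' : W ≤ U'),
      F.obj.map (homOfLE i).op s = F.obj.map (homOfLE i').op s' := by
  obtain ⟨W, hxW, i, i', hh⟩ := TopCat.Presheaf.germ_eq (F := F.obj) x hx hx' s s' h
  exact ⟨W, hxW, i.le, i'.le, hh⟩

/-- Injective with locally acyclic cokernel implies quasi-isomorphism. -/
theorem quasiIso_of_local {F G : HomologicalComplex (CohTop.Ab X) c} (φ : F ⟶ G)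
    (hinj : ∀ (p : ι) (U : Opens X) (s : (F.X p).obj.obj (op U)), (φ.f p).hom.app (op U) s = 0 →
      ∀ x ∈ U, ∃ (V : Opens X) (_ : x ∈ V) (i : V ≤ U), (F.X p).obj.map (homOfLE i).op s = 0)
    (hloc : ∀ (p : ι) (U : Opens X) (z : (G.X p).obj.obj (op U)) (w : (F.X (c.next p)).obj.obj (op U)),
      (φ.f (c.next p)).hom.app (op U) w = (G.d p (c.next p)).hom.app (op U) z → ∀ x ∈ U,
        ∃ (V : Opens X) (_ : x ∈ V) (i : V ≤ U) (w' : (F.X p).obj.obj (op V))
          (y : (G.X (c.prev p)).obj.obj (op V)),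
          (G.X p).obj.map (homOfLE i).op z = (φ.f p).hom.app (op V) w' + (G.d (c.prev p) p).hom.app (op V) y) :
    QuasiIso φ := by
  refine quasiIso_of_St φ fun x => ?_
  -- injectivity on stalks
  have inj : ∀ p, ∀ a : (St x).obj (F.X p), (St x).map (φ.f p) a = 0 → a = 0 := by
    intro p a ha
    obtain ⟨U, hx, s, rfl⟩ := germ_exists _ x a
    rw [germ_map] at ha
    obtain ⟨W, hxW, i, i', h⟩ := germ_eq _ x hx hx _ 0 (ha.trans (map_zero _).symm)
    rw [map_zero, ← naturality'] at h
    obtain ⟨V, hxV, j, hV⟩ := hinj p W _ h x hxW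
    rw [← germ_res (F.X p) i x hxW, ← germ_res (F.X p) j x hxV, hV, map_zero]
  -- acyclicity on stalks
  have key : ∀ p, ∀ a : (St x).obj (G.X p), (∃ b : (St x).obj (F.X (c.next p)),
      (St x).map (φ.f (c.next p)) b = (St x).map (G.d p (c.next p)) a) →
      ∃ (b' : (St x).obj (F.X p)) (e : (St x).obj (G.X (c.prev p))),
        a = (St x).map (φ.f p) b' + (St x).map (G.d (c.prev p) p) e := by
    intro p a
    rintro ⟨b, hb⟩
    obtain ⟨U, hx, z, rfl⟩ := germ_exists _ x a
    obtain ⟨U', hx', w, rfl⟩ := germ_exists _ x b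
    rw [germ_map, germ_map] at hb
    obtain ⟨W, hxW, i, i', h⟩ := germ_eq _ x hx' hx _ _ hb
    rw [← naturality', ← naturality'] at h
    obtain ⟨V, hxV, j, w', y, hy⟩ := hloc p W _ _ h x hxW
    refine ⟨germ _ V x hxV w', germ _ V x hxV y, ?_⟩
    rw [germ_map, germ_map, ← map_add, ← hy, germ_res, germ_res]
  refine Groth.Agent.H15Site.quasiIso_of_elementwise _ (fun p a ha y hy => ?_) fun p y hy => ?_
  · -- injectivity on cohomology
    by_cases hrel : c.Rel (c.prev p) p
    swap
    · refine ⟨0, ?_⟩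
      have ha' : (St x).map (φ.f p) a = 0 := by
        rw [show (St x).map (φ.f p) a = (St x).map (G.d (c.prev p) p) y from hy, G.shape _ _ hrel, Functor.map_zero]
        rfl
      rw [map_zero, inj p a ha']
    obtain ⟨b', e, he⟩ : ∃ (b' : (St x).obj (F.X (c.prev p))) (e : (St x).obj (G.X (c.prev (c.prev p)))),
        y = (St x).map (φ.f (c.prev p)) b' + (St x).map (G.d (c.prev (c.prev p)) (c.prev p)) e := by
      have hn : c.next (c.prev p) = p := c.next_eq' hrel
      refine key _ y ?_
      rw [hn]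
      exact ⟨a, hy⟩
    refine ⟨b', ?_⟩
    have h2 := congrArg (fun t => ((St x).map (G.d (c.prev p) p)) t) he
    simp only [map_add] at h2
    have hdd : (St x).map (G.d (c.prev p) p) ((St x).map (G.d (c.prev (c.prev p)) (c.prev p)) e) = 0 := by
      rw [← ConcreteCategory.comp_apply, ← Functor.map_comp, G.d_comp_d, Functor.map_zero]; rfl
    have hcomm : (St x).map (G.d (c.prev p) p) ((St x).map (φ.f (c.prev p)) b') =
        (St x).map (φ.f p) ((St x).map (F.d (c.prev p) p) b') := by
      rw [← ConcreteCategory.comp_apply, ← ConcreteCategory.comp_apply, ← Functor.map_comp, ← Functor.map_comp,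
        φ.comm]
    rw [hdd, add_zero, hcomm] at h2
    exact (sub_eq_zero.1 (inj p _ ((map_sub _ _ _).trans (sub_eq_zero.2 (hy.trans h2))))).symm
  · -- surjectivity on cohomology
    obtain ⟨b', e, he⟩ := key p y ⟨0, by rw [map_zero]; exact hy.symm⟩
    refine ⟨b', e, ?_, he⟩
    refine inj _ _ ?_
    have h2 := congrArg (fun t => ((St x).map (G.d p (c.next p))) t) he
    simp only [map_add] at h2
    have hdd : (St x).map (G.d p (c.next p)) ((St x).map (G.d (c.prev p) p) e) = 0 := by
      rw [← ConcreteCategory.comp_apply, ← Functor.map_comp, G.d_comp_d, Functor.map_zero]; rfl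
    have hcomm : (St x).map (φ.f (c.next p)) ((St x).map (F.d p (c.next p)) b') =
        (St x).map (G.d p (c.next p)) ((St x).map (φ.f p) b') := by
      rw [← ConcreteCategory.comp_apply, ← ConcreteCategory.comp_apply, ← Functor.map_comp, ← Functor.map_comp,
        φ.comm]
    rw [hdd, add_zero] at h2
    exact hcomm.trans (h2.symm.trans hy)

end Groth.Agent.H27LogTwist
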