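import Groth.Agent.H27LogTwist.Cx
import Groth.Agent.H27LogTwist.StalkQis
import Mathlib

/-! # Twisting the log de Rham complex is a quasi-isomorphism under a residue condition -/

set_option autoImplicit false
set_option linter.style.haveILetI false
set_option backward.isDefEq.respectTransparency false
set_option backward.isDefEq.respectTransparency.types false

universe u

open CategoryTheory CategoryTheory.Limits AlgebraicGeometry TopologicalSpace Opposite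
open scoped TensorProduct

namespace Groth.Agent.H27LogTwist

open Groth.Agent.H27LogNCD exteriorPower

variable {X S : Scheme.{u}} {f : X ⟶ S} {Ω : X.Modules} {d : OmegaSh.Der f Ω} {r : ℕ}
  {D : Fin r → X.IdealSheafData} {Λ : LogNCD.LogMod d D} {E : X.Modules}

/-- `ρ i + μ` is locally surjective modulo `D i` for `μ < ν i`. -/
def ResOK (ρ : ∀ i : Fin r, E ⟶ CohB1.tensorMod E (ClSub.quotMod (D i))) (ν : Fin r → ℕ) : Prop :=
  ∀ i μ, μ < ν i → ∀ (U : X.Opens) (m : Γ(E, U)), ∀ x ∈ U, ∃ (V : X.Opens) (h : V ≤ U) (m' : Γ(E, V)),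
    x ∈ V ∧ (ρ i).app V m' + (μ : Γ(X, V)) • pimap (D := D) E i V m' = pimap (D := D) E i V (rm E h m)

theorem resOK_of_isIso (ρ : ∀ i : Fin r, E ⟶ CohB1.tensorMod E (ClSub.quotMod (D i))) (ν : Fin r → ℕ)
    (h : ∀ i μ, μ < ν i → ∃ R : CohB1.tensorMod E (ClSub.quotMod (D i)) ⟶ CohB1.tensorMod E (ClSub.quotMod (D i)),
      (SecTwist.unitorR E).inv ≫ KoszTw.tensorMap (𝟙 E) (ClSub.toSubscheme (D i)) ≫ R = ρ i ∧
        IsIso (R + μ • 𝟙 (CohB1.tensorMod E (ClSub.quotMod (D i))))) :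
    ResOK ρ ν := by
  intro i μ hμ U m x hx
  obtain ⟨R, hR, hiso⟩ := h i μ hμ
  let G := R + μ • 𝟙 (CohB1.tensorMod E (ClSub.quotMod (D i)))
  obtain ⟨z, hz⟩ := (ConcreteCategory.bijective_of_isIso (G.app U)).2 (pimap (D := D) E i U m)
  obtain ⟨V, hV, hxV, m', hm'⟩ := pimap_locally_surjective E i z x hx
  refine ⟨V, hV, m', hxV, ?_⟩
  have h1 : G.app V (pimap (D := D) E i V m') = pimap (D := D) E i V (rm E hV m) := by
    rw [hm', rm, app_mapM, hz, pimap_res]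
  have h2 : (ρ i).app V m' = R.app V (pimap (D := D) E i V m') := by
    rw [← hR, ← Category.assoc, Scheme.Modules.Hom.comp_app, ConcreteCategory.comp_apply, unit_comp_app]
  have h3 : ∀ (k : ℕ) (y : Γ(CohB1.tensorMod E (ClSub.quotMod (D i)), V)),
      (k • 𝟙 (CohB1.tensorMod E (ClSub.quotMod (D i)))).app V y = k • y := by
    intro k y
    induction k with
    | zero => rw [zero_smul, zero_smul]; rfl
    | succ k ih => rw [succ_nsmul, succ_nsmul, Scheme.Modules.Hom.add_app]; exact congrArg (· + y) ih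
  rw [← h1, h2, Nat.cast_smul_eq_nsmul, ← h3]
  rfl

variable {nabla : Coh.toAb E ⟶ Coh.toAb (CohB1.tensorMod E Λ.L)} (K : ConnSh.Cx (LogNCD.der Λ) E nabla)

theorem map_map' (F : Sheaf (Opens.grothendieckTopology X) AddCommGrpCat.{u}) {U V W : X.Opens} (e : V ≤ U)
    (e' : W ≤ V) (s : F.obj.obj (op U)) :
    F.obj.map (homOfLE e').op (F.obj.map (homOfLE e).op s) = F.obj.map (homOfLE (e'.trans e)).op s := by
  rw [← ConcreteCategory.comp_apply, ← Functor.map_comp]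
  rfl

theorem loc_symm_one (U : X.affineOpens) (m : Γ(E, U.1)) (a : Γ(Λ.L, U.1)) :
    K.iso1.hom.app U.1 ((K.loc 1 U).symm (m ⊗ₜ one a)) = H11Ample.tm m a := K.loc1 U m a

theorem pimap_th (i : Fin r) (U : X.affineOpens) (v : Γ(Λ.L, U.1) →ₗ[Γ(X, U.1)] Γ(X, U.1))
    (hv : ∀ s, cls D i U.1 (v s) = (Λ.res i).app U.1 s) (τ : NN Λ E U.1 1) :
    pimap (D := D) E i U.1 (th v τ) =
      (KoszTw.tensorMap (𝟙 E) (Λ.res i)).app U.1 (K.iso1.hom.app U.1 ((K.loc 1 U).symm τ)) := by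
  induction τ using TensorProduct.induction_on with
  | zero => simp [th]
  | add x y hx hy => rw [th_add', map_add, hx, hy, map_add, map_add, map_add]
  | tmul m α =>
    obtain ⟨a, rfl⟩ := exists_one α
    rw [th_tmul_one, map_smul, loc_symm_one]
    refine Eq.trans ?_ (KoszTw.tensorMap_tmul (𝟙 E) (Λ.res i) U.1 m a).symm
    show v a • H11Ample.tm m (cls D i U.1 1) = H11Ample.tm m ((Λ.res i).app U.1 a)
    rw [← H11Ample.tm_smul_right, ← cls_mul, mul_one, hv]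

theorem exists_lift_res {U : X.Opens} (hU : IsAffineOpen U) (i : Fin r) {n : ℕ} {b : Fin n → Γ(Λ.L, U)}
    (hb : OBas Λ.L U b) :
    ∃ v : Γ(Λ.L, U) →ₗ[Γ(X, U)] Γ(X, U), ∀ s, cls D i U (v s) = (Λ.res i).app U s := by
  choose a ha using fun k => cls_surjective hU i ((Λ.res i).app U (b k))
  let B := hb.basis (le_refl U)
  refine ⟨B.constr Γ(X, U) a, fun s => ?_⟩
  have hb' : ∀ k, B k = b k := fun k => by simp [B, OBas.basis_apply, rm]
  let L1 : Γ(Λ.L, U) →ₗ[Γ(X, U)] Γ(ClSub.quotMod (D i), U) :=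
    { toFun := fun s => cls D i U (B.constr Γ(X, U) a s)
      map_add' := fun s t => by rw [map_add, cls_add]
      map_smul' := fun c s => by rw [map_smul, smul_eq_mul, cls_mul]; rfl }
  let L2 : Γ(Λ.L, U) →ₗ[Γ(X, U)] Γ(ClSub.quotMod (D i), U) :=
    { toFun := (Λ.res i).app U, map_add' := map_add _, map_smul' := fun c s => (Λ.res i).app_smul c s }
  refine LinearMap.congr_fun (show L1 = L2 from B.ext fun k => ?_) s
  show cls D i U (B.constr Γ(X, U) a (B k)) = (Λ.res i).app U (B k)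
  rw [Module.Basis.constr_basis, ha, hb']

theorem good_chart (hd : OmegaSh.IsUniversal d) {U : X.Opens} {g : Fin r → Γ(X, U)} {dl : Fin r → Γ(Λ.L, U)}
    (hc : Chart Λ E U g dl) (ρ : ∀ i : Fin r, E ⟶ CohB1.tensorMod E (ClSub.quotMod (D i)))
    (hρ : ∀ i, LogNCD.IsResidue Λ E nabla i (ρ i)) (ν : Fin r → ℕ)
    (hsurj : ∀ i μ, μ < ν i → ∀ m : Γ(E, U), ∃ m' : Γ(E, U),
      (ρ i).app U m' + (μ : Γ(X, U)) • pimap (D := D) E i U m' = pimap (D := D) E i U m) :
    Good (DU K ⟨U, hc.frame.affine⟩) (∏ i, g i ^ ν i) := by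
  classical
  haveI := hc.finite_E
  haveI := hc.finite_L
  obtain ⟨nE, bE, hE⟩ := hc.basE
  obtain ⟨nL, bL, hL⟩ := hc.basL
  obtain ⟨V0, hV0, hle⟩ := hc.base
  have hU := hc.frame.affine
  choose v hv using fun i => exists_lift_res (Λ := Λ) hU i hL
  have hdvd : ∀ i (a : Γ(X, U)), cls D i U a = 0 → g i ∣ a := fun i a ha => by
    have := mem_ideal_of_cls_eq_zero hU ha
    rwa [hc.frame.ideal i, Ideal.mem_span_singleton] at this
  have hexact : ∀ i t, g i ∣ v i (dlog Λ U t) := fun i t => hdvd i _ (by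
    rw [hv, dlog_eq]; exact res_app_form Λ.res_ι i U _)
  have hvdl : ∀ i j, g i ∣ v i (dl j) - (if i = j then 1 else 0) := fun i j => hdvd i _ (by
    rw [cls_sub, hv]
    by_cases h : i = j
    · subst h; rw [if_pos rfl, hc.frame.res_dl, sub_self]
    · rw [if_neg h, hc.frame.res_dl_ne j i (Ne.symm h), cls_zero, sub_zero])
  refine good_prod (nab := nab1 K ⟨U, hU⟩) (S := Set.range dl ∪ Set.range (dlog Λ U)) g dl v ν
    (span_dlog hd hc.frame hV0 hle) (dlog_one U) (dlog_mul U) (fun i => (hc.frame.smul_dl i).symm) hexact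
    (fun i s hs => ?_) hvdl (hc.leib K hd) (hc.closed K) (DU_sq K _)
    (fun i p x => hc.eq_zero_of_smul (hc.regular i) p x) (fun i μ hμ m => ?_)
  · rcases hs with ⟨j, rfl⟩ | ⟨t, rfl⟩
    · exact ⟨if i = j then 1 else 0, by simpa [apply_ite ((↑) : ℤ → Γ(X, U))] using hvdl i j⟩
    · exact ⟨0, by simpa using hexact i t⟩
  · obtain ⟨m', hm'⟩ := hsurj i μ hμ m
    have hθ : pimap (D := D) E i U (th (v i) (nab1 K ⟨U, hU⟩ m')) = (ρ i).app U m' := by
      refine (pimap_th K i ⟨U, hU⟩ (v i) (hv i) _).trans ?_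
      have h1 := congrArg (fun φ : Coh.toAb E ⟶ Coh.toAb (CohB1.tensorMod E (ClSub.quotMod (D i))) =>
        φ.hom.app (op U) m') (hρ i)
      refine Eq.trans ?_ h1.symm
      show (KoszTw.tensorMap (𝟙 E) (Λ.res i)).app U _ = (KoszTw.tensorMap (𝟙 E) (Λ.res i)).app U _
      congr 1
      simp only [nab1, LinearEquiv.symm_apply_apply]
      exact congr($(congrArg (fun φ : CohB1.tensorMod E Λ.L ⟶ CohB1.tensorMod E Λ.L => φ.app U)
        K.iso1.inv_hom_id) (ConnSh.secApp nabla U m'))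
    obtain ⟨e, he⟩ := pimap_ker E i hU (hc.frame.ideal i) hE (e := th (v i) (nab1 K ⟨U, hU⟩ m') + (μ : Γ(X, U)) • m' - m)
      (by rw [map_sub, map_add, map_smul, hθ, hm', sub_self])
    exact ⟨m', e, sub_eq_iff_eq_add'.1 he⟩

variable (I : X.IdealSheafData) {nabla' : Coh.toAb (CohB1.tensorMod E (ClSub.idealMod I)) ⟶
    Coh.toAb (CohB1.tensorMod (CohB1.tensorMod E (ClSub.idealMod I)) Λ.L)}
  (K' : ConnSh.Cx (LogNCD.der Λ) (CohB1.tensorMod E (ClSub.idealMod I)) nabla')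

/-- `z ⊗ ω ↦ (z ⊗ s) ⊗ ω` -/
noncomputable def jT {U : X.Opens} (s : Γ(ClSub.idealMod I, U)) (p : ℕ) :
    NN Λ E U p →ₗ[Γ(X, U)] NN Λ (CohB1.tensorMod E (ClSub.idealMod I)) U p :=
  (jmap E I s).rTensor _

theorem psi_jT (p : ℕ) (ψ : K'.term p ⟶ K.term p) (U : X.affineOpens)
    (hψ : ∀ (e : Γ(E, U.1)) (g : (ClSub.idealMod I).val.obj (op U.1)) (ω : Fin p → Γ(Λ.L, U.1)),
      ψ.app U.1 ((K'.loc p U).symm (SecTwist.tmul E (ClSub.idealMod I) U.1 e g ⊗ₜ ιMulti _ p ω)) =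
        (K.loc p U).symm ((OmegaSh.idealSect I U.1 g • e) ⊗ₜ ιMulti _ p ω))
    (s : Γ(ClSub.idealMod I, U.1)) (z : NN Λ E U.1 p) :
    K.loc p U (ψ.app U.1 ((K'.loc p U).symm (jT I s p z))) = OmegaSh.idealSect I U.1 s • z := by
  induction z using TensorProduct.induction_on with
  | zero => simp
  | add x y hx hy => rw [map_add, map_add, map_add, map_add, hx, hy, smul_add]
  | tmul m w =>
    have hw : w ∈ Submodule.span Γ(X, U.1) (Set.range (ιMulti Γ(X, U.1) p (M := Γ(Λ.L, U.1)))) := by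
      rw [ιMulti_span]; trivial
    induction hw using Submodule.span_induction with
    | zero => simp
    | add a b _ _ ha hb => rw [TensorProduct.tmul_add, map_add, map_add, map_add, map_add, ha, hb, smul_add]
    | smul c a _ ha =>
      rw [TensorProduct.tmul_smul, map_smul, LinearEquiv.map_smul, Scheme.Modules.Hom.app_smul, LinearEquiv.map_smul, ha,
        smul_comm]
    | mem y hy =>
      obtain ⟨ω, rfl⟩ := hy
      have h1 := congrArg (K.loc p U) (hψ m s ω)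
      rw [LinearEquiv.apply_symm_apply] at h1
      rw [TensorProduct.smul_tmul']
      exact h1

/-- sections of the twisted term come from `E ⊗ ⋀L` near each point -/
theorem exists_jT {U : X.affineOpens} {c : Γ(X, U.1)} (hI : I.ideal U = Ideal.span {c})
    (s : Γ(ClSub.idealMod I, U.1)) (hs : OmegaSh.idealSect I U.1 s = c) (p : ℕ)
    (z : NN Λ (CohB1.tensorMod E (ClSub.idealMod I)) U.1 p) (x : X) (hx : x ∈ U.1) :
    ∃ N : X.Opens, x ∈ N ∧ ∀ (V : X.affineOpens) (h : V.1 ≤ U.1), V.1 ≤ N →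
      ∃ z0 : NN Λ E V.1 p, jT I (rm _ h s) p z0 = rho K' p h z := by
  induction z using TensorProduct.induction_on with
  | zero => exact ⟨U.1, hx, fun V h _ => ⟨0, by rw [map_zero, map_zero]⟩⟩
  | add a b ha hb =>
    obtain ⟨N, hN, hN'⟩ := ha
    obtain ⟨M, hM, hM'⟩ := hb
    refine ⟨N ⊓ M, ⟨hN, hM⟩, fun V h hV => ?_⟩
    obtain ⟨a0, ha0⟩ := hN' V h (hV.trans inf_le_left)
    obtain ⟨b0, hb0⟩ := hM' V h (hV.trans inf_le_right)
    exact ⟨a0 + b0, by rw [map_add, map_add, ha0, hb0]⟩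
  | tmul e' w =>
    obtain ⟨N, hNU, hxN, e, he⟩ := jmap_locally_surjective E I U.2 hI s hs e' x hx
    refine ⟨N, hxN, fun V h hV => ?_⟩
    have hw : w ∈ Submodule.span Γ(X, U.1) (Set.range (ιMulti Γ(X, U.1) p (M := Γ(Λ.L, U.1)))) := by
      rw [ιMulti_span]; trivial
    induction hw using Submodule.span_induction with
    | zero => exact ⟨0, by rw [map_zero, TensorProduct.tmul_zero, map_zero]⟩
    | add a b _ _ ha hb =>
      obtain ⟨a0, ha0⟩ := ha
      obtain ⟨b0, hb0⟩ := hb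
      exact ⟨a0 + b0, by rw [map_add, TensorProduct.tmul_add, map_add, ha0, hb0]⟩
    | smul c a _ ha =>
      obtain ⟨a0, ha0⟩ := ha
      exact ⟨rs h c • a0, by rw [map_smul, ha0, TensorProduct.tmul_smul, rho_smul]⟩
    | mem y hy =>
      obtain ⟨ω, rfl⟩ := hy
      refine ⟨rm E hV e ⊗ₜ ιMulti _ p fun j => rm Λ.L h (ω j), ?_⟩
      rw [rho_tmul]
      refine congrArg (· ⊗ₜ[Γ(X, V.1)] _) ?_
      have h1 := congrArg (rm (CohB1.tensorMod E (ClSub.idealMod I)) hV) he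
      rw [jmap_res] at h1
      simp only [rm, map_mapM] at h1 ⊢
      exact h1

theorem quasiIso_twist (hd : OmegaSh.IsUniversal d) (hD : LogNCD.IsNCD D f) [Smooth f]
    (hE : FlatMod.IsFinLocFree E) (ρ : ∀ i : Fin r, E ⟶ CohB1.tensorMod E (ClSub.quotMod (D i)))
    (hρ : ∀ i, LogNCD.IsResidue Λ E nabla i (ρ i)) (ν : Fin r → ℕ) (hres : ResOK ρ ν)
    (hI : ∀ (U : X.affineOpens) (g : Fin r → Γ(X, U.1)), (∀ i, (D i).ideal U = Ideal.span {g i}) →
      I.ideal U = Ideal.span {∏ i, g i ^ ν i})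
    (φ : K'.K ⟶ K.K) (ψ : ∀ p : ℕ, K'.term p ⟶ K.term p)
    (hφ : ∀ p : ℕ, φ.f p = (K'.iso p).hom ≫ (SheafOfModules.toSheaf X.ringCatSheaf).map (ψ p) ≫ (K.iso p).inv)
    (hψ : ∀ (p : ℕ) (U : X.affineOpens) (e : Γ(E, U.1)) (g : (ClSub.idealMod I).val.obj (op U.1))
      (ω : Fin p → Γ(Λ.L, U.1)),
      (ψ p).app U.1 ((K'.loc p U).symm (SecTwist.tmul E (ClSub.idealMod I) U.1 e g ⊗ₜ ιMulti _ p ω)) =
        (K.loc p U).symm ((OmegaSh.idealSect I U.1 g • e) ⊗ₜ ιMulti _ p ω)) :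
    QuasiIso φ := by
  classical
  have hφ' : ∀ (p : ℕ) (W : X.Opens) (s : (K'.K.X p).obj.obj (op W)),
      (K.iso p).hom.hom.app (op W) ((φ.f p).hom.app (op W) s) =
        (ψ p).app W ((K'.iso p).hom.hom.app (op W) s) := fun p W s => by
    rw [hφ p]
    exact iso_hom_inv K p W _
  -- a chart inside a neighbourhood, with the twisted sections decomposed
  have hdec : ∀ (p : ℕ) (W : X.Opens) (w : (K'.K.X p).obj.obj (op W)) (N : X.Opens) (x : X), x ∈ W → x ∈ N →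
      ∃ (U : X.Opens) (g : Fin r → Γ(X, U)) (dl : Fin r → Γ(Λ.L, U)) (hc : Chart Λ E U g dl) (hW : U ≤ W)
        (b : Γ(X, U)) (s : Γ(ClSub.idealMod I, U)) (w0 : NN Λ E U p),
        x ∈ U ∧ U ≤ N ∧ OmegaSh.idealSect I U s = b ∧ IsRegular b ∧ (∏ i, g i ^ ν i) ∣ b ∧
        K'.loc p ⟨U, hc.frame.affine⟩ ((K'.iso p).hom.hom.app (op U) ((K'.K.X p).obj.map (homOfLE hW).op w)) =
          jT I s p w0 := by
    intro p W w N x hxW hxN
    obtain ⟨U₁, g₁, dl₁, hxU₁, hle₁, hc₁⟩ := exists_chart_near hd hD Λ hE (W ⊓ N) x ⟨hxW, hxN⟩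
    have hI₁ := hI ⟨U₁, hc₁.frame.affine⟩ g₁ hc₁.frame.ideal
    obtain ⟨s₁, hs₁⟩ := (H29Blow.mem_ideal_iff_exists_idealSect I hc₁.frame.affine _).1
      (hI₁.ge (Ideal.mem_span_singleton_self _))
    obtain ⟨M, hxM, hM⟩ := exists_jT I K' (U := ⟨U₁, hc₁.frame.affine⟩) hI₁ s₁ hs₁ p
      (K'.loc p ⟨U₁, hc₁.frame.affine⟩ ((K'.iso p).hom.hom.app (op U₁)
        ((K'.K.X p).obj.map (homOfLE (hle₁.trans inf_le_left)).op w))) x hxU₁
    obtain ⟨U, g, dl, hxU, hle, hc⟩ := exists_chart_near hd hD Λ hE (U₁ ⊓ M) x ⟨hxU₁, hxM⟩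
    have hU₁ : U ≤ U₁ := hle.trans inf_le_left
    obtain ⟨w0, hw0⟩ := hM ⟨U, hc.frame.affine⟩ hU₁ (hle.trans inf_le_right)
    have hW : U ≤ W := hU₁.trans (hle₁.trans inf_le_left)
    have hspan : Ideal.span {rs hU₁ (∏ i, g₁ i ^ ν i)} = Ideal.span {∏ i, g i ^ ν i} :=
      (ideal_res hc₁.frame.affine hc.frame.affine hU₁ hI₁).symm.trans (hI ⟨U, hc.frame.affine⟩ g hc.frame.ideal)
    have hreg : IsRegular (rs hU₁ (∏ i, g₁ i ^ ν i)) := by
      obtain ⟨a, ha⟩ := Ideal.span_singleton_le_span_singleton.1 hspan.ge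
      have h0 : IsRegular (∏ i, g i ^ ν i) := IsRegular.prod fun i _ => (hc.regular i).pow _
      rw [ha] at h0
      exact (isRegular_mul_iff.1 h0).1
    refine ⟨U, g, dl, hc, hW, _, rm _ hU₁ s₁, w0, hxU, hU₁.trans (hle₁.trans inf_le_right),
      (by rw [rm, H29Blow.idealSect_res, hs₁]), hreg, Ideal.span_singleton_le_span_singleton.1 hspan.le, ?_⟩
    rw [hw0]
    simp only [rho, AddMonoidHom.coe_mk, ZeroHom.coe_mk, LinearEquiv.symm_apply_apply]
    congr 1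
    have h1 := natural (K'.iso p).hom hU₁ ((K'.K.X p).obj.map (homOfLE (hle₁.trans inf_le_left)).op w)
    rw [map_map'] at h1
    exact h1
  have hψ' : ∀ (p : ℕ) (U : X.affineOpens) (s : (K'.K.X p).obj.obj (op U.1)) (t : Γ(ClSub.idealMod I, U.1))
      (z0 : NN Λ E U.1 p), K'.loc p U ((K'.iso p).hom.hom.app (op U.1) s) = jT I t p z0 →
      K.loc p U ((K.iso p).hom.hom.app (op U.1) ((φ.f p).hom.app (op U.1) s)) =
        OmegaSh.idealSect I U.1 t • z0 := fun p U s t z0 h => by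
    rw [hφ', ← psi_jT K I K' p (ψ p) U (hψ p U) t z0, ← h, LinearEquiv.symm_apply_apply]
  refine quasiIso_of_local φ ?_ ?_
  · intro p W s hs x hx
    obtain ⟨U, g, dl, hc, hW, b, t, z0, hxU, -, hb, hreg, -, hz0⟩ := hdec p W s W x hx hx
    refine ⟨U, hxU, hW, ?_⟩
    have h1 := hψ' p ⟨U, hc.frame.affine⟩ ((K'.K.X p).obj.map (homOfLE hW).op s) t z0 hz0
    rw [natural (φ.f p) hW, hs, map_zero, map_zero, map_zero, hb] at h1
    have hz : z0 = 0 := hc.eq_zero_of_smul hreg p z0 h1.symm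
    rw [hz, map_zero, LinearEquiv.map_eq_zero_iff] at hz0
    rw [← iso_inv_hom K' p U ((K'.K.X p).obj.map (homOfLE hW).op s), hz0, map_zero]
  · intro p
    rw [CochainComplex.next ℕ p]
    intro W z w hw x hx
    -- residues: preimages of a basis near `x`
    obtain ⟨U₀, g₀, dl₀, hxU₀, hle₀, hc₀⟩ := exists_chart_near hd hD Λ hE W x hx
    obtain ⟨n, bE, hbE⟩ := hc₀.basE
    choose V hV m' hxV hm' using fun (q : Σ i : Fin r, Fin (ν i) × Fin n) =>
      hres q.1 q.2.1 q.2.1.2 U₀ (bE q.2.2) x hxU₀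
    let N : X.Opens := U₀ ⊓ ⟨⋂ q, (V q : Set X), isOpen_iInter_of_finite fun q => (V q).2⟩
    obtain ⟨U, g, dl, hc, hW, b, t, w0, hxU, hUN, hb, -, hdvd, hw0⟩ :=
      hdec (p + 1) W w N x hx ⟨hxU₀, Set.mem_iInter.2 hxV⟩
    have hU₀ : U ≤ U₀ := hUN.trans inf_le_left
    have hUV : ∀ q, U ≤ V q := fun q y hy => Set.mem_iInter.1 (hUN hy).2 q
    have hgood := good_chart K hd hc ρ hρ ν fun i μ hμ m => by
      obtain ⟨c, rfl⟩ := (hbE U hU₀).2 m
      refine ⟨∑ k, c k • rm E (hUV ⟨i, ⟨μ, hμ⟩, k⟩) (m' ⟨i, ⟨μ, hμ⟩, k⟩), ?_⟩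
      simp only [map_sum, map_smul, Scheme.Modules.Hom.app_smul, Finset.smul_sum, ← Finset.sum_add_distrib]
      refine Finset.sum_congr rfl fun k _ => ?_
      rw [smul_comm (μ : Γ(X, U)), ← smul_add]
      congr 1
      have h1 := congrArg (rm (CohB1.tensorMod E (ClSub.quotMod (D i))) (hUV ⟨i, ⟨μ, hμ⟩, k⟩)) (hm' ⟨i, ⟨μ, hμ⟩, k⟩)
      rw [rm_add, rm_smul, ← pimap_res, ← pimap_res] at h1
      simp only [rm] at h1
      rw [← app_mapM] at h1
      simp only [rs, map_natCast, rm, map_mapM] at h1 ⊢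
      exact h1
    let Ua : X.affineOpens := ⟨U, hc.frame.affine⟩
    let z2 : NN Λ E U p := K.loc p Ua ((K.iso p).hom.hom.app (op U) ((K.K.X p).obj.map (homOfLE hW).op z))
    have hDz : DU K Ua p z2 = b • w0 := by
      rw [← hb, ← hψ' (p + 1) Ua _ t w0 hw0, natural (φ.f (p + 1)) hW, hw, ← natural (K.K.d p (p + 1)) hW]
      simp only [DU, z2, Ua, AddMonoidHom.coe_mk, ZeroHom.coe_mk, LinearEquiv.symm_apply_apply, iso_inv_hom]
    have hmem : DU K Ua p z2 ∈ G (M := Γ(E, U)) (∏ i, g i ^ ν i) (p + 1) := hDz ▸ G_of_dvd hdvd w0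
    obtain ⟨s2, hs2⟩ := (H29Blow.mem_ideal_iff_exists_idealSect I hc.frame.affine _).1
      ((hI Ua g hc.frame.ideal).ge (Ideal.mem_span_singleton_self _))
    let back : NN Λ E U p → (K'.K.X p).obj.obj (op U) := fun e =>
      (K'.iso p).inv.hom.app (op U) ((K'.loc p Ua).symm (jT I s2 p e))
    have hback : ∀ e, K.loc p Ua ((K.iso p).hom.hom.app (op U) ((φ.f p).hom.app (op U) (back e))) =
        (∏ i, g i ^ ν i) • e := fun e => by
      rw [hψ' p Ua (back e) s2 e (by simp only [back, Ua, iso_hom_inv, LinearEquiv.apply_symm_apply]), hs2]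
    have hinj : Function.Injective fun y : (K.K.X p).obj.obj (op U) =>
        K.loc p Ua ((K.iso p).hom.hom.app (op U) y) := fun y y' h => by
      rw [← iso_inv_hom K p U y, ← iso_inv_hom K p U y', (K.loc p Ua).injective h]
    cases p with
    | zero =>
      obtain ⟨e, he⟩ := hgood.1 z2 hmem
      refine ⟨U, hxU, hW, back e, 0, hinj ?_⟩
      simp only [map_zero, add_zero, hback]
      exact he.symm
    | succ q =>
      rw [CochainComplex.prev_nat_succ]
      obtain ⟨y, e, he⟩ := hgood.2 q z2 hmem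
      refine ⟨U, hxU, hW, back e, (K.iso q).inv.hom.app (op U) ((K.loc q Ua).symm y), hinj ?_⟩
      show z2 = K.loc (q + 1) Ua ((K.iso (q + 1)).hom.hom.app (op U) (_ + _))
      rw [map_add, map_add, hback]
      rw [LinearMap.lsmul_apply] at he
      rw [he]
      exact (sub_add_cancel _ _).symm

end Groth.Agent.H27LogTwist
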