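import Groth.Agent.H27LogTwist.Apply
import Mathlib

/-! # Residues of the twisted connection, and the twist in the positive direction -/

set_option autoImplicit false
set_option linter.style.haveILetI false
set_option backward.isDefEq.respectTransparency false
set_option backward.isDefEq.respectTransparency.types false

universe u

open CategoryTheory CategoryTheory.Limits AlgebraicGeometry TopologicalSpace Opposite
open scoped TensorProduct

namespace Groth.Agent.H27LogTwist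

open Groth.Agent.H27LogNCD exteriorPower

variable {X S : Scheme.{u}} {f : X ⟶ S} {Ω : X.Modules} {d : OmegaSh.Der f Ω} {r : ℕ}
  {D : Fin r → X.IdealSheafData} {Λ : LogNCD.LogMod d D} {E : X.Modules}
  {nabla : Coh.toAb E ⟶ Coh.toAb (CohB1.tensorMod E Λ.L)} (K : ConnSh.Cx (LogNCD.der Λ) E nabla)

theorem twedge_zero (U : X.Opens) (τ : NN Λ E U 1) (ω : Fin 0 → Γ(Λ.L, U)) :
    Conn.twedge 0 τ (ιMulti Γ(X, U) 0 ω) = τ := by
  induction τ using TensorProduct.induction_on with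
  | zero => simp
  | add x y hx hy => rw [map_add, LinearMap.add_apply, hx, hy]
  | tmul m α =>
    obtain ⟨a, rfl⟩ := exists_one α
    rw [Conn.twedge_tmul, wedge_one_ιMulti]
    congr 2
    exact funext fun j => by fin_cases j; rfl

theorem nab1_eq_DU (U : X.affineOpens) (e : Γ(E, U.1)) :
    DU K U 0 (e ⊗ₜ ιMulti Γ(X, U.1) 0 ![]) = nab1 K U e := by
  have h := rule' K U 0 e 1 ![]
  rw [one_smul, dlog_one, cons_eq_zero _ _ (Submodule.zero_mem _), TensorProduct.tmul_zero, add_zero,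
    twedge_zero] at h
  rw [← h]
  congr 3

theorem pimap_th_nab1 {i : Fin r} {ρ : E ⟶ CohB1.tensorMod E (ClSub.quotMod (D i))}
    (hρ : LogNCD.IsResidue Λ E nabla i ρ) (U : X.affineOpens) (v : Γ(Λ.L, U.1) →ₗ[Γ(X, U.1)] Γ(X, U.1))
    (hv : ∀ s, cls D i U.1 (v s) = (Λ.res i).app U.1 s) (m : Γ(E, U.1)) :
    pimap (D := D) E i U.1 (th v (nab1 K U m)) = ρ.app U.1 m := by
  refine (pimap_th K i U v hv _).trans ?_
  have h1 := congrArg (fun φ : Coh.toAb E ⟶ Coh.toAb (CohB1.tensorMod E (ClSub.quotMod (D i))) =>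
    φ.hom.app (op U.1) m) hρ
  refine Eq.trans ?_ h1.symm
  show (KoszTw.tensorMap (𝟙 E) (Λ.res i)).app U.1 _ = (KoszTw.tensorMap (𝟙 E) (Λ.res i)).app U.1 _
  congr 1
  simp only [nab1, LinearEquiv.symm_apply_apply]
  exact congr($(congrArg (fun φ : CohB1.tensorMod E Λ.L ⟶ CohB1.tensorMod E Λ.L => φ.app U.1)
    K.iso1.inv_hom_id) (ConnSh.secApp nabla U.1 m))

theorem dlog_prod_pow {U : X.Opens} {g : Fin r → Γ(X, U)} {dl : Fin r → Γ(Λ.L, U)}
    (hc : Chart Λ E U g dl) (ν : Fin r → ℕ) :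
    (∏ i, g i ^ ν i) • (∑ i, (ν i : Γ(X, U)) • dl i) = dlog Λ U (∏ i, g i ^ ν i) := by
  classical
  have hpow : ∀ (i : Fin r) (k : ℕ), g i ^ k • ((k : Γ(X, U)) • dl i) = dlog Λ U (g i ^ k) := by
    intro i k
    induction k with
    | zero => rw [pow_zero, Nat.cast_zero, zero_smul, smul_zero, dlog_one]
    | succ k ih =>
      rw [pow_succ, dlog_mul, ← ih, dlog_eq, ← hc.frame.smul_dl i, smul_smul, smul_smul, smul_smul, smul_smul,
        ← add_smul]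
      push_cast
      ring_nf
  suffices ∀ t : Finset (Fin r), (∏ i ∈ t, g i ^ ν i) • (∑ i ∈ t, (ν i : Γ(X, U)) • dl i) =
      dlog Λ U (∏ i ∈ t, g i ^ ν i) from this Finset.univ
  intro t
  induction t using Finset.induction with
  | empty => rw [Finset.prod_empty, Finset.sum_empty, smul_zero, dlog_one]
  | insert a t ha ih =>
    rw [Finset.prod_insert ha, Finset.sum_insert ha, dlog_mul, ← ih, ← hpow a, smul_add, mul_smul, mul_smul,
      smul_comm (g a ^ ν a) (∏ i ∈ t, g i ^ ν i), add_comm]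

theorem res_sum_dl {U : X.Opens} {g : Fin r → Γ(X, U)} {dl : Fin r → Γ(Λ.L, U)}
    (hc : Chart Λ E U g dl) (ν : Fin r → ℕ) (j : Fin r) :
    (Λ.res j).app U (∑ i, (ν i : Γ(X, U)) • dl i) = cls D j U (ν j : Γ(X, U)) := by
  classical
  rw [map_sum, Finset.sum_eq_single j]
  · rw [Scheme.Modules.Hom.app_smul, hc.frame.res_dl, ← cls_mul, mul_one]
  · intro i _ hij
    rw [Scheme.Modules.Hom.app_smul, hc.frame.res_dl_ne i j hij, smul_zero]
  · simp

variable (I : X.IdealSheafData) {nabla' : Coh.toAb (CohB1.tensorMod E (ClSub.idealMod I)) ⟶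
    Coh.toAb (CohB1.tensorMod (CohB1.tensorMod E (ClSub.idealMod I)) Λ.L)}
  (K' : ConnSh.Cx (LogNCD.der Λ) (CohB1.tensorMod E (ClSub.idealMod I)) nabla')

theorem th_jT {U : X.Opens} (s : Γ(ClSub.idealMod I, U)) (v : Γ(Λ.L, U) →ₗ[Γ(X, U)] Γ(X, U)) (z : NN Λ E U 1) :
    th v (jT I s 1 z) = jmap E I s (th v z) := by
  induction z using TensorProduct.induction_on with
  | zero => simp [th]
  | add x y hx hy => rw [map_add, th_add', hx, hy, th_add', map_add]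
  | tmul m α =>
    obtain ⟨a, rfl⟩ := exists_one α
    rw [th_tmul_one, map_smul]
    exact th_tmul_one v _ a

theorem psi_DU (φ : K'.K ⟶ K.K) (ψ : ∀ p : ℕ, K'.term p ⟶ K.term p)
    (hφ : ∀ p : ℕ, φ.f p = (K'.iso p).hom ≫ (SheafOfModules.toSheaf X.ringCatSheaf).map (ψ p) ≫ (K.iso p).inv)
    (p : ℕ) (U : X.affineOpens) (z : NN Λ (CohB1.tensorMod E (ClSub.idealMod I)) U.1 p) :
    K.loc (p + 1) U ((ψ (p + 1)).app U.1 ((K'.loc (p + 1) U).symm (DU K' U p z))) =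
      DU K U p (K.loc p U ((ψ p).app U.1 ((K'.loc p U).symm z))) := by
  have hφ' : ∀ (q : ℕ) (s : (K'.K.X q).obj.obj (op U.1)),
      (K.iso q).hom.hom.app (op U.1) ((φ.f q).hom.app (op U.1) s) =
        (ψ q).app U.1 ((K'.iso q).hom.hom.app (op U.1) s) := fun q s => by
    rw [hφ q]
    exact iso_hom_inv K q U.1 _
  simp only [DU, AddMonoidHom.coe_mk, ZeroHom.coe_mk, LinearEquiv.symm_apply_apply]
  rw [← hφ']
  congr 2
  have h1 := congr($(congrArg (fun χ : K'.K.X p ⟶ K.K.X (p + 1) => χ.hom.app (op U.1)) (φ.comm p (p + 1)))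
    ((K'.iso p).inv.hom.app (op U.1) ((K'.loc p U).symm z)))
  refine Eq.trans h1.symm (congrArg ((K.K.d p (p + 1)).hom.app (op U.1)) ?_)
  have h2 := hφ' p ((K'.iso p).inv.hom.app (op U.1) ((K'.loc p U).symm z))
  rw [iso_hom_inv] at h2
  rw [← h2, iso_inv_hom]
  rfl

/-- `∇ (m ⊗ s) = ∇ m ⊗ s + (m ⊗ s) ⊗ β` locally, `β = d log` of the generator `s` -/
theorem nab1_jmap (hd : OmegaSh.IsUniversal d) (hD : LogNCD.IsNCD D f) [Smooth f] (hE : FlatMod.IsFinLocFree E)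
    (φ : K'.K ⟶ K.K) (ψ : ∀ p : ℕ, K'.term p ⟶ K.term p)
    (hφ : ∀ p : ℕ, φ.f p = (K'.iso p).hom ≫ (SheafOfModules.toSheaf X.ringCatSheaf).map (ψ p) ≫ (K.iso p).inv)
    (hψ : ∀ (p : ℕ) (U : X.affineOpens) (e : Γ(E, U.1)) (g : (ClSub.idealMod I).val.obj (op U.1))
      (ω : Fin p → Γ(Λ.L, U.1)),
      (ψ p).app U.1 ((K'.loc p U).symm (SecTwist.tmul E (ClSub.idealMod I) U.1 e g ⊗ₜ ιMulti _ p ω)) =
        (K.loc p U).symm ((OmegaSh.idealSect I U.1 g • e) ⊗ₜ ιMulti _ p ω))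
    (ν : Fin r → ℕ) (hI : ∀ (U : X.affineOpens) (g : Fin r → Γ(X, U.1)),
      (∀ i, (D i).ideal U = Ideal.span {g i}) → I.ideal U = Ideal.span {∏ i, g i ^ ν i})
    {U : X.affineOpens} {c : Γ(X, U.1)} (hIU : I.ideal U = Ideal.span {c}) (s : Γ(ClSub.idealMod I, U.1))
    (hs : OmegaSh.idealSect I U.1 s = c) (β : Γ(Λ.L, U.1)) (hβ : c • β = dlog Λ U.1 c)
    (m : Γ(E, U.1)) (x : X) (hx : x ∈ U.1) :
    ∃ (V : X.Opens) (g : Fin r → Γ(X, V)) (dl : Fin r → Γ(Λ.L, V)) (hc : Chart Λ E V g dl) (h : V ≤ U.1),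
      x ∈ V ∧ IsRegular (rs h c) ∧
      nab1 K' ⟨V, hc.frame.affine⟩ (jmap E I (rm _ h s) (rm E h m)) =
        jT I (rm _ h s) 1 (nab1 K ⟨V, hc.frame.affine⟩ (rm E h m) + rm E h m ⊗ₜ one (rm Λ.L h β)) := by
  obtain ⟨N, hxN, hN⟩ := exists_jT I K' (U := U) hIU s hs 1 (nab1 K' U (jmap E I s m)) x hx
  obtain ⟨V, g, dl, hxV, hle, hc⟩ := exists_chart_near hd hD Λ hE (U.1 ⊓ N) x ⟨hx, hxN⟩
  have h : V ≤ U.1 := hle.trans inf_le_left
  obtain ⟨w, hw⟩ := hN ⟨V, hc.frame.affine⟩ h (hle.trans inf_le_right)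
  rw [nab1_rho, jmap_res] at hw
  have hspan : Ideal.span {rs h c} = Ideal.span {∏ i, g i ^ ν i} :=
    (ideal_res U.2 hc.frame.affine h hIU).symm.trans (hI ⟨V, hc.frame.affine⟩ g hc.frame.ideal)
  have hreg : IsRegular (rs h c) := by
    obtain ⟨a, ha⟩ := Ideal.span_singleton_le_span_singleton.1 hspan.ge
    have h0 : IsRegular (∏ i, g i ^ ν i) := IsRegular.prod fun i _ => (hc.regular i).pow _
    rw [ha] at h0
    exact (isRegular_mul_iff.1 h0).1
  refine ⟨V, g, dl, hc, h, hxV, hreg, hw.symm.trans (congrArg _ (eq_of_sub_eq_zero ?_))⟩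
  refine hc.eq_zero_of_smul hreg 1 _ ?_
  rw [smul_sub, sub_eq_zero]
  have hsV : OmegaSh.idealSect I V (rm _ h s) = rs h c := by rw [rm, H29Blow.idealSect_res, hs]
  let Va : X.affineOpens := ⟨V, hc.frame.affine⟩
  have e0 : DU K' Va 0 (jT I (rm _ h s) 0 (rm E h m ⊗ₜ ιMulti Γ(X, V) 0 ![])) = jT I (rm _ h s) 1 w :=
    (nab1_eq_DU K' Va _).trans hw.symm
  have h1 := psi_DU K I K' φ ψ hφ 0 Va (jT I (rm _ h s) 0 (rm E h m ⊗ₜ ιMulti Γ(X, V) 0 ![]))
  rw [e0, psi_jT K I K' 1 (ψ 1) Va (hψ 1 Va), psi_jT K I K' 0 (ψ 0) Va (hψ 0 Va), hsV] at h1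
  rw [h1]
  have h2 := hc.leib K hd 0 (rs h c) (rm E h m ⊗ₜ ιMulti Γ(X, V) 0 ![])
  rw [wdg_tmul_ιMulti] at h2
  rw [h2, nab1_eq_DU K Va (rm E h m), smul_add]
  congr 1
  have h3 := congrArg (rm Λ.L h) hβ
  rw [rm_smul, dlog_res] at h3
  rw [← h3, ← TensorProduct.tmul_smul, ← one_smul']
  congr 1

theorem resOK_reverse (hd : OmegaSh.IsUniversal d) (hD : LogNCD.IsNCD D f) [Smooth f] (hE : FlatMod.IsFinLocFree E)
    (φ : K'.K ⟶ K.K) (ψ : ∀ p : ℕ, K'.term p ⟶ K.term p)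
    (hφ : ∀ p : ℕ, φ.f p = (K'.iso p).hom ≫ (SheafOfModules.toSheaf X.ringCatSheaf).map (ψ p) ≫ (K.iso p).inv)
    (hψ : ∀ (p : ℕ) (U : X.affineOpens) (e : Γ(E, U.1)) (g : (ClSub.idealMod I).val.obj (op U.1))
      (ω : Fin p → Γ(Λ.L, U.1)),
      (ψ p).app U.1 ((K'.loc p U).symm (SecTwist.tmul E (ClSub.idealMod I) U.1 e g ⊗ₜ ιMulti _ p ω)) =
        (K.loc p U).symm ((OmegaSh.idealSect I U.1 g • e) ⊗ₜ ιMulti _ p ω))
    (ν : Fin r → ℕ) (hI : ∀ (U : X.affineOpens) (g : Fin r → Γ(X, U.1)),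
      (∀ i, (D i).ideal U = Ideal.span {g i}) → I.ideal U = Ideal.span {∏ i, g i ^ ν i})
    (ρ : ∀ i : Fin r, E ⟶ CohB1.tensorMod E (ClSub.quotMod (D i)))
    (hρ : ∀ i, LogNCD.IsResidue Λ E nabla i (ρ i))
    (ρ' : ∀ i : Fin r, CohB1.tensorMod E (ClSub.idealMod I) ⟶
      CohB1.tensorMod (CohB1.tensorMod E (ClSub.idealMod I)) (ClSub.quotMod (D i)))
    (hρ' : ∀ i, LogNCD.IsResidue Λ (CohB1.tensorMod E (ClSub.idealMod I)) nabla' i (ρ' i))
    (R : ∀ i : Fin r, CohB1.tensorMod (CohB1.tensorMod E (ClSub.idealMod I)) (ClSub.quotMod (D i)) ⟶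
      CohB1.tensorMod (CohB1.tensorMod E (ClSub.idealMod I)) (ClSub.quotMod (D i)))
    (hR : ∀ i, (SecTwist.unitorR (CohB1.tensorMod E (ClSub.idealMod I))).inv ≫
      KoszTw.tensorMap (𝟙 (CohB1.tensorMod E (ClSub.idealMod I))) (ClSub.toSubscheme (D i)) ≫ R i = ρ' i)
    (hstar : ∀ (i : Fin r) (μ : ℕ), 1 ≤ μ →
      IsIso (R i - μ • 𝟙 (CohB1.tensorMod (CohB1.tensorMod E (ClSub.idealMod I)) (ClSub.quotMod (D i))))) :
    ResOK ρ ν := by
  intro j μ hμ U0 m x hx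
  let k := ν j - μ
  haveI := hstar j k (by omega)
  obtain ⟨U₁, g₁, dl₁, hxU₁, hle₁, hc₁⟩ := exists_chart_near hd hD Λ hE U0 x hx
  have hI₁ := hI ⟨U₁, hc₁.frame.affine⟩ g₁ hc₁.frame.ideal
  obtain ⟨s₁, hs₁⟩ := (H29Blow.mem_ideal_iff_exists_idealSect I hc₁.frame.affine _).1
    (hI₁.ge (Ideal.mem_span_singleton_self _))
  let M := CohB1.tensorMod (CohB1.tensorMod E (ClSub.idealMod I)) (ClSub.quotMod (D j))
  let G := R j - k • 𝟙 M
  obtain ⟨z, hz⟩ := (ConcreteCategory.bijective_of_isIso (G.app U₁)).2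
    (pimap (D := D) (CohB1.tensorMod E (ClSub.idealMod I)) j U₁ (jmap E I s₁ (rm E hle₁ m)))
  obtain ⟨V₂, hV₂, hxV₂, e₂, he₂⟩ := pimap_locally_surjective (CohB1.tensorMod E (ClSub.idealMod I)) j z x hxU₁
  obtain ⟨A, g₂, dl₂, hxA, hA, hc₂⟩ := exists_chart_near hd hD Λ hE V₂ x hxV₂
  obtain ⟨B, hBA, hxB, m₂, hm₂⟩ := jmap_locally_surjective E I hc₂.frame.affine
    (ideal_res hc₁.frame.affine hc₂.frame.affine (hA.trans hV₂) hI₁) (rm _ (hA.trans hV₂) s₁)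
    (by rw [rm, H29Blow.idealSect_res, hs₁]) (rm (CohB1.tensorMod E (ClSub.idealMod I)) hA e₂) x hxA
  obtain ⟨U₂, hU₂, hxU₂, hle₂⟩ := exists_isAffineOpen_mem_and_subset hxB
  have h₁₂ : U₂ ≤ U₁ := (le_trans hle₂ hBA).trans (hA.trans hV₂)
  have hm₂' : jmap E I (rm _ h₁₂ s₁) (rm E hle₂ m₂) = rm (CohB1.tensorMod E (ClSub.idealMod I)) ((le_trans hle₂ hBA).trans hA) e₂ := by
    have := congrArg (rm (CohB1.tensorMod E (ClSub.idealMod I)) hle₂) hm₂
    rw [jmap_res] at this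
    simp only [rm, map_mapM] at this ⊢
    exact this
  obtain ⟨V, g, dl, hc, h, hxV, hreg, hnab⟩ := nab1_jmap K I K' hd hD hE φ ψ hφ hψ ν hI
    (U := ⟨U₂, hU₂⟩) (ideal_res hc₁.frame.affine hU₂ h₁₂ hI₁) (rm _ h₁₂ s₁)
    (by rw [rm, H29Blow.idealSect_res, hs₁]) (rm Λ.L h₁₂ (∑ i, (ν i : Γ(X, U₁)) • dl₁ i))
    (by rw [← rm_smul, dlog_prod_pow hc₁, dlog_res]) (rm E hle₂ m₂) x hxU₂
  have h₁ : V ≤ U₁ := h.trans h₁₂
  have h₀ : V ≤ U0 := h₁.trans hle₁
  let s : Γ(ClSub.idealMod I, V) := rm _ h₁ s₁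
  let m' : Γ(E, V) := rm E (h.trans hle₂) m₂
  have hsV : rm _ h (rm (ClSub.idealMod I) h₁₂ s₁) = s := map_mapM _ _ _
  have hmV : rm E h (rm E hle₂ m₂) = m' := map_mapM _ _ _
  have hβV : rm Λ.L h (rm Λ.L h₁₂ (∑ i, (ν i : Γ(X, U₁)) • dl₁ i)) =
      rm Λ.L h₁ (∑ i, (ν i : Γ(X, U₁)) • dl₁ i) := map_mapM _ _ _
  rw [hsV, hmV, hβV] at hnab
  obtain ⟨nL, bL, hL⟩ := hc.basL
  obtain ⟨v, hv⟩ := exists_lift_res (Λ := Λ) hc.frame.affine j hL
  let e : Γ(E, V) := th v (nab1 K ⟨V, hc.frame.affine⟩ m')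
  have hvβ : pimap (D := D) (CohB1.tensorMod E (ClSub.idealMod I)) j V (v (rm Λ.L h₁ (∑ i, (ν i : Γ(X, U₁)) • dl₁ i)) • jmap E I s m') =
      (ν j : Γ(X, V)) • pimap (D := D) (CohB1.tensorMod E (ClSub.idealMod I)) j V (jmap E I s m') := by
    rw [map_smul, ← sub_eq_zero, ← sub_smul]
    refine smul_eq_zero_of_mem (CohB1.tensorMod E (ClSub.idealMod I)) j hc.frame.affine (mem_ideal_of_cls_eq_zero hc.frame.affine ?_) _
    rw [cls_sub, hv, rm, app_mapM, res_sum_dl hc₁, ← cls_res, sub_eq_zero]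
    simp [rs]
  have hA' : (ρ' j).app V (jmap E I s m') =
      pimap (D := D) (CohB1.tensorMod E (ClSub.idealMod I)) j V (jmap E I s e) + (ν j : Γ(X, V)) • pimap (D := D) (CohB1.tensorMod E (ClSub.idealMod I)) j V (jmap E I s m') := by
    rw [← pimap_th_nab1 K' (hρ' j) ⟨V, hc.frame.affine⟩ v hv]
    dsimp only
    rw [hnab, th_jT, th_add', th_tmul_one, map_add, map_add, map_smul, hvβ]
  have hJ : jmap E I s m' = rm (CohB1.tensorMod E (ClSub.idealMod I)) (h.trans ((le_trans hle₂ hBA).trans hA)) e₂ := by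
    rw [← hsV, ← hmV, ← jmap_res, hm₂']
    exact map_mapM _ _ _
  have hG : G.app V (pimap (D := D) (CohB1.tensorMod E (ClSub.idealMod I)) j V (jmap E I s m')) =
      pimap (D := D) (CohB1.tensorMod E (ClSub.idealMod I)) j V (jmap E I s (rm E h₀ m)) := by
    rw [hJ, pimap_res, he₂]
    simp only [rm, map_mapM, app_mapM, hz]
    rw [← rm, ← pimap_res, jmap_res]
    simp only [s, rm, map_mapM]
  have h3 : ∀ (n : ℕ) (y : Γ(M, V)), (n • 𝟙 M).app V y = n • y := by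
    intro n y
    induction n with
    | zero => rw [zero_smul, zero_smul]; rfl
    | succ n ih => rw [succ_nsmul, succ_nsmul, Scheme.Modules.Hom.add_app]; exact congrArg (· + y) ih
  have hB' : (ρ' j).app V (jmap E I s m') = pimap (D := D) (CohB1.tensorMod E (ClSub.idealMod I)) j V (jmap E I s (rm E h₀ m)) +
      (k : Γ(X, V)) • pimap (D := D) (CohB1.tensorMod E (ClSub.idealMod I)) j V (jmap E I s m') := by
    rw [← hR j, ← Category.assoc, Scheme.Modules.Hom.comp_app, ConcreteCategory.comp_apply, unit_comp_app,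
      show R j = G + k • 𝟙 M from (sub_add_cancel _ _).symm, Scheme.Modules.Hom.add_app]
    show G.app V _ + (k • 𝟙 M).app V _ = _
    rw [hG, h3, Nat.cast_smul_eq_nsmul]
  have hzero : pimap (D := D) (CohB1.tensorMod E (ClSub.idealMod I)) j V (jmap E I s (e + (μ : Γ(X, V)) • m' - rm E h₀ m)) = 0 := by
    rw [map_sub, map_add, map_smul, map_sub, map_add, map_smul]
    have hk : (ν j : Γ(X, V)) = (μ : Γ(X, V)) + (k : Γ(X, V)) := by
      rw [← Nat.cast_add, Nat.add_sub_cancel' hμ.le]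
    have := hA'.symm.trans hB'
    rw [hk, add_smul, ← add_assoc, add_left_inj] at this
    rw [this, sub_self]
  obtain ⟨A', hA'a, hA'V, hxA', e', he'⟩ :=
    exists_eq_smul_of_pimap_eq_zero (CohB1.tensorMod E (ClSub.idealMod I)) j hc.frame.affine (hc.frame.ideal j) hzero x hxV
  have hcs : OmegaSh.idealSect I V s = rs h₁ (∏ i, g₁ i ^ ν i) := by
    simp only [s, rm, H29Blow.idealSect_res, hs₁]
  obtain ⟨B', hB'A, hxB', e₀, he₀⟩ := jmap_locally_surjective E I hA'a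
    (ideal_res hc₁.frame.affine hA'a (hA'V.trans h₁) hI₁) (rm _ hA'V s)
    (by rw [rm, H29Blow.idealSect_res, hcs]; exact rs_rs _ _ _) e' x hxA'
  obtain ⟨W, gW, dlW, hxW, hleW, hcW⟩ := exists_chart_near hd hD Λ hE B' x hxB'
  have hWA : W ≤ A' := hleW.trans hB'A
  have hW : W ≤ V := hWA.trans hA'V
  refine ⟨W, hW.trans h₀, rm E hW m', hxW, ?_⟩
  have hregW : IsRegular (rs (hW.trans h₁) (∏ i, g₁ i ^ ν i)) := by
    have hspan : Ideal.span {rs (hW.trans h₁) (∏ i, g₁ i ^ ν i)} = Ideal.span {∏ i, gW i ^ ν i} :=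
      (ideal_res hc₁.frame.affine hcW.frame.affine (hW.trans h₁) hI₁).symm.trans
        (hI ⟨W, hcW.frame.affine⟩ gW hcW.frame.ideal)
    obtain ⟨a, ha⟩ := Ideal.span_singleton_le_span_singleton.1 hspan.ge
    have h0 : IsRegular (∏ i, gW i ^ ν i) := IsRegular.prod fun i _ => (hcW.regular i).pow _
    rw [ha] at h0
    exact (isRegular_mul_iff.1 h0).1
  have hdiff : rm E hW (e + (μ : Γ(X, V)) • m' - rm E h₀ m) = rs hW (g j) • rm E hleW e₀ := by
    have h4 := congrArg (rm (CohB1.tensorMod E (ClSub.idealMod I)) hWA) he'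
    rw [rm_smul, show rm (CohB1.tensorMod E (ClSub.idealMod I)) hWA e' = rm (CohB1.tensorMod E (ClSub.idealMod I)) hleW (rm (CohB1.tensorMod E (ClSub.idealMod I)) hB'A e') from (map_mapM _ _ _).symm, ← he₀, jmap_res] at h4
    have h5 := congrArg ((LogNCD.inclTwist E I).app W) h4
    simp only [rm, jmap_res, map_mapM] at h5
    simp only [Scheme.Modules.Hom.app_smul, incl_jmap, rm, map_mapM, H29Blow.idealSect_res, hcs] at h5
    rw [← rm, rs_rs, smul_comm] at h5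
    obtain ⟨nE, bE, hbE⟩ := hcW.basE
    have hcan : ∀ a b : Γ(E, W), rs (hW.trans h₁) (∏ i, g₁ i ^ ν i) • a =
        rs (hW.trans h₁) (∏ i, g₁ i ^ ν i) • b → a = b := fun a b hab =>
      (hbE.basis le_rfl).ext_elem fun i => hregW.left (by
        simpa only [map_smul, Finsupp.smul_apply, smul_eq_mul] using congrArg (fun y => (hbE.basis le_rfl).repr y i) hab)
    refine hcan _ _ ?_
    simp only [rs_rs, rm, map_mapM] at h5 ⊢
    exact h5
  have h6 := congrArg (pimap (D := D) E j W) hdiff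
  rw [map_smul, smul_eq_zero_of_mem E j hcW.frame.affine
    (show rs hW (g j) ∈ (D j).ideal ⟨W, hcW.frame.affine⟩ by
      rw [ideal_res hc.frame.affine hcW.frame.affine hW (hc.frame.ideal j)]
      exact Ideal.mem_span_singleton_self _),
    pimap_res, map_sub, map_add, map_smul, pimap_th_nab1 K (hρ j) ⟨V, hc.frame.affine⟩ v hv] at h6
  simp only [rm, map_sub, map_add, Scheme.Modules.map_smul, sub_eq_zero] at h6
  simp only [map_natCast, ← app_mapM] at h6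
  rw [show rm E (hW.trans h₀) m = rm E hW (rm E h₀ m) from (map_mapM _ _ _).symm, pimap_res _ _ hW,
    pimap_res _ _ hW]
  simp only [rm]
  exact h6

end Groth.Agent.H27LogTwist
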