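import Groth.Agent.H27LogTwist.Main
import Groth.Agent.H27LogNCD.Residue
import Mathlib

/-! # Glue for the twist theorems -/

set_option autoImplicit false
set_option linter.style.haveILetI false
set_option backward.isDefEq.respectTransparency false
set_option backward.isDefEq.respectTransparency.types false

universe u

open CategoryTheory CategoryTheory.Limits AlgebraicGeometry TopologicalSpace Opposite
open scoped TensorProduct

namespace Groth.Agent.H27LogTwist

open Groth.Agent.H27LogNCD

theorem ideal_prod_pow {X : Scheme.{u}} {ι : Type*} (D : ι → X.IdealSheafData) (ν : ι → ℕ) (s : Finset ι)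
    (U : X.affineOpens) (g : ι → Γ(X, U.1)) (hg : ∀ i, (D i).ideal U = Ideal.span {g i}) :
    (∏ i ∈ s, D i ^ ν i).ideal U = Ideal.span {∏ i ∈ s, g i ^ ν i} := by
  classical
  have hpow : ∀ (i : ι) (k : ℕ), (D i ^ k).ideal U = Ideal.span {g i ^ k} := fun i k => by
    induction k with
    | zero =>
      simp only [pow_zero, Scheme.IdealSheafData.one_eq_top, Ideal.span_singleton_one]
      rfl
    | succ k ih =>
      rw [pow_succ, Scheme.IdealSheafData.ideal_mul, Pi.mul_apply, ih, hg, Ideal.span_singleton_mul_span_singleton,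
        ← pow_succ]
  induction s using Finset.induction with
  | empty =>
    simp only [Finset.prod_empty, Scheme.IdealSheafData.one_eq_top, Ideal.span_singleton_one]
    rfl
  | insert a t ha ih =>
    rw [Finset.prod_insert ha, Finset.prod_insert ha, Scheme.IdealSheafData.ideal_mul, Pi.mul_apply, ih, hpow,
      Ideal.span_singleton_mul_span_singleton]

theorem residue_unique {X S : Scheme.{u}} {f : X ⟶ S} {Ω : X.Modules} {d : OmegaSh.Der f Ω} {r : ℕ}
    {D : Fin r → X.IdealSheafData} {Λ : LogNCD.LogMod d D} {E : X.Modules}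
    {nabla : Coh.toAb E ⟶ Coh.toAb (CohB1.tensorMod E Λ.L)} {i : Fin r}
    {ρ ρ' : E ⟶ CohB1.tensorMod E (ClSub.quotMod (D i))} (h : LogNCD.IsResidue Λ E nabla i ρ)
    (h' : LogNCD.IsResidue Λ E nabla i ρ') : ρ = ρ' :=
  (SheafOfModules.toSheaf X.ringCatSheaf).map_injective (h.trans h'.symm)

end Groth.Agent.H27LogTwist
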