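import Groth.Agent.H27LogTwist.Core

/-! # Twisting by an effective divisor, ring level -/

set_option autoImplicit false

universe u

open TensorProduct exteriorPower

namespace Groth.Agent.H27LogTwist

variable {B : Type u} [CommRing B] {L M : Type u} [AddCommGroup L] [Module B L] [AddCommGroup M] [Module B M]

theorem one_add (a b : L) : one (B := B) (a + b) = one a + one b :=
  Subtype.ext (by rw [Submodule.coe_add, coe_one', coe_one', coe_one', map_add])

theorem one_smul' (c : B) (a : L) : one (B := B) (c • a) = c • one a :=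
  Subtype.ext (by rw [Submodule.coe_smul, coe_one', coe_one', map_smul])

theorem wdg_smul_one (p : ℕ) (c : B) (a : L) (x : M ⊗[B] ↥(⋀[B]^p L)) :
    wdg M p (c • a) x = c • wdg M p a x := by
  rw [wdg, wdg, one_smul', map_smul, LinearMap.lTensor_smul, LinearMap.smul_apply]

theorem th_tmul_one (v : L →ₗ[B] B) (m : M) (a : L) : th v (m ⊗ₜ one a) = v a • m := by
  have : ctr v 0 (one a) = v a • ιMulti B 0 ![] := by
    have h := ctr_wedge_zero v a (ιMulti B 0 ![])
    rwa [wedge_one_ιMulti, show Fin.cons a ![] = ![a] from rfl] at h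
  rw [th, ictr_tmul, this, TensorProduct.tmul_smul, map_smul, e0_tmul_one]

theorem th_add' (v : L →ₗ[B] B) (τ τ' : M ⊗[B] ↥(⋀[B]^1 L)) : th v (τ + τ') = th v τ + th v τ' := by
  simp [th, map_add]

section

variable (dB : B → L) (D : ∀ p : ℕ, M ⊗[B] ↥(⋀[B]^p L) →+ M ⊗[B] ↥(⋀[B]^(p + 1) L))
  (nab : M → M ⊗[B] ↥(⋀[B]^1 L)) (S : Set L)

/-- the conjugate `c⁻¹ D c` of `D`, for `dB c = c • β` -/
noncomputable def twistD (β : L) (p : ℕ) : M ⊗[B] ↥(⋀[B]^p L) →+ M ⊗[B] ↥(⋀[B]^(p + 1) L) :=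
  D p + (wdg M p β).toAddMonoidHom

/-- cocycles modulo `c` are coboundaries modulo `c` -/
def Good (c : B) : Prop :=
  (∀ z, D 0 z ∈ G (M := M) c 1 → z ∈ G (M := M) c 0) ∧
    ∀ p z, D (p + 1) z ∈ G (M := M) c (p + 2) → ∃ y, z - D p y ∈ G (M := M) c (p + 1)

theorem good_one : Good D (1 : B) :=
  ⟨fun z _ => ⟨z, one_smul _ z⟩, fun p z _ => ⟨0, z, by simp⟩⟩

variable {dB D nab S}

theorem setup_twist {v : L →ₗ[B] B} {g : B} {β : L} {c : B} (hspan : Submodule.span B S = ⊤)
    (hdlog : ∃ a : L, dB g = g • a) (hex : ∀ t, g ∣ v (dB t)) (hgen : ∀ s ∈ S, ∃ n : ℤ, g ∣ v s - n)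
    (hleib : ∀ p t x, D p (t • x) = t • D p x + wdg M p (dB t) x)
    (hclosed : ∀ p (m : M) (s : Fin p → L), (∀ i, s i ∈ S) →
      D p (m ⊗ₜ ιMulti B p s) = Conn.twedge p (nab m) (ιMulti B p s))
    (hsq : ∀ p x, D (p + 1) (D p x) = 0) (hc : dB c = c • β)
    (hinj : ∀ p (x : M ⊗[B] ↥(⋀[B]^p L)), c • x = 0 → x = 0)
    (hsurj : ∀ m : M, ∃ m' e : M, th v (nab m') + v β • m' = m + g • e) :
    Setup v S g dB (twistD D β) (fun m => nab m + m ⊗ₜ one β) where
  span := hspan
  dlog := hdlog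
  v_exact := hex
  v_gen := hgen
  leib p t x := by
    simp only [twistD, AddMonoidHom.add_apply, LinearMap.toAddMonoidHom_coe, hleib, map_smul, smul_add]
    abel
  closed p m s hs := by
    simp only [twistD, AddMonoidHom.add_apply, LinearMap.toAddMonoidHom_coe, hclosed p m s hs, map_add,
      LinearMap.add_apply, wdg_tmul, Conn.twedge_tmul]
  sq p x := by
    have hconj : ∀ p x, c • twistD D β p x = D p (c • x) := fun p x => by
      simp only [twistD, AddMonoidHom.add_apply, LinearMap.toAddMonoidHom_coe, hleib, hc, wdg_smul_one, smul_add]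
    apply hinj
    rw [hconj, hconj, hsq]
  surj m := by
    obtain ⟨m', e, he⟩ := hsurj m
    exact ⟨m', e, by rw [th_add', th_tmul_one, he]⟩

theorem good_mul [Module.Finite B M] [Module.Finite B L] {v : L →ₗ[B] B} {g : B} {β : L} {c : B}
    (h : Setup v S g dB (twistD D β) (fun m => nab m + m ⊗ₜ one β))
    (hleib : ∀ p t x, D p (t • x) = t • D p x + wdg M p (dB t) x) (hc : dB c = c • β)
    (hinj : ∀ p (x : M ⊗[B] ↥(⋀[B]^p L)), c • x = 0 → x = 0) (hgood : Good D c)
    (hsq : ∀ p x, D (p + 1) (D p x) = 0) :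
    Good D (c * g) := by
  have hconj : ∀ p x, c • twistD D β p x = D p (c • x) := fun p x => by
    simp only [twistD, AddMonoidHom.add_apply, LinearMap.toAddMonoidHom_coe, hleib, hc, wdg_smul_one, smul_add]
  have hsub : ∀ p, G (M := M) (L := L) (c * g) p ≤ G (M := M) c p := fun p => by
    rintro _ ⟨y, rfl⟩
    exact ⟨g • y, by simp [mul_smul, smul_comm g c]⟩
  have hstep : ∀ p z', D p (c • z') ∈ G (M := M) (c * g) (p + 1) → twistD D β p z' ∈ G (M := M) g (p + 1) := by
    rintro p z' ⟨w, hw⟩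
    refine ⟨w, sub_eq_zero.1 (hinj _ _ ?_)⟩
    rw [smul_sub, hconj, ← hw, LinearMap.lsmul_apply, LinearMap.lsmul_apply, mul_smul, sub_self]
  constructor
  · intro z hz
    obtain ⟨z', rfl⟩ := hgood.1 z (hsub _ hz)
    obtain ⟨w, rfl⟩ := acyclic_zero h (hstep 0 z' hz)
    exact ⟨w, by simp [mul_smul, smul_comm g c]⟩
  · intro p z hz
    obtain ⟨y, z', hz'⟩ := hgood.2 p z (hsub _ hz)
    rw [LinearMap.lsmul_apply] at hz'
    have hD : D (p + 1) (c • z') ∈ G (M := M) (c * g) (p + 2) := by rwa [hz', map_sub, hsq, sub_zero]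
    obtain ⟨y', w, hw⟩ := acyclic_succ h p (hstep (p + 1) z' hD)
    rw [LinearMap.lsmul_apply] at hw
    refine ⟨y + c • y', w, ?_⟩
    rw [LinearMap.lsmul_apply, mul_smul, hw, smul_sub, hconj, hz', map_add]
    abel

end

section

variable {dB : B → L} {D : ∀ p : ℕ, M ⊗[B] ↥(⋀[B]^p L) →+ M ⊗[B] ↥(⋀[B]^(p + 1) L)}
  {nab : M → M ⊗[B] ↥(⋀[B]^1 L)} {S : Set L}

/-- All products of powers of the equations are good. -/
theorem good_prod [Module.Finite B M] [Module.Finite B L] {r : ℕ} (g : Fin r → B) (dl : Fin r → L)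
    (v : Fin r → L →ₗ[B] B) (ν : Fin r → ℕ) (hspan : Submodule.span B S = ⊤)
    (h1 : dB 1 = 0) (hmul : ∀ a b, dB (a * b) = a • dB b + b • dB a)
    (hdl : ∀ i, dB (g i) = g i • dl i)
    (hex : ∀ i t, g i ∣ v i (dB t)) (hgen : ∀ i, ∀ s ∈ S, ∃ n : ℤ, g i ∣ v i s - n)
    (hvdl : ∀ i j, g i ∣ v i (dl j) - (if i = j then 1 else 0))
    (hleib : ∀ p t x, D p (t • x) = t • D p x + wdg M p (dB t) x)
    (hclosed : ∀ p (m : M) (s : Fin p → L), (∀ i, s i ∈ S) →
      D p (m ⊗ₜ ιMulti B p s) = Conn.twedge p (nab m) (ιMulti B p s))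
    (hsq : ∀ p x, D (p + 1) (D p x) = 0)
    (hinj : ∀ i p (x : M ⊗[B] ↥(⋀[B]^p L)), g i • x = 0 → x = 0)
    (hsurj : ∀ i (μ : ℕ), μ < ν i → ∀ m : M, ∃ m' e : M, th (v i) (nab m') + (μ : B) • m' = m + g i • e) :
    Good D (∏ i, g i ^ ν i) := by
  classical
  suffices H : ∀ (n : ℕ) (a : Fin r → ℕ), ∑ i, a i = n → a ≤ ν →
      dB (∏ i, g i ^ a i) = (∏ i, g i ^ a i) • (∑ j, (a j : B) • dl j) ∧ Good D (∏ i, g i ^ a i) from
    (H _ ν rfl le_rfl).2
  intro n
  induction n with
  | zero =>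
    intro a ha _
    have : a = 0 := funext fun i => by have := Finset.sum_eq_zero_iff.1 ha i (Finset.mem_univ i); simpa using this
    subst this
    simp only [Pi.zero_apply, pow_zero, Finset.prod_const_one, Nat.cast_zero, zero_smul, Finset.sum_const_zero,
      smul_zero]
    exact ⟨h1, good_one D⟩
  | succ n ih =>
    intro a ha hle
    obtain ⟨i, hi⟩ : ∃ i, a i ≠ 0 := by
      by_contra hh
      push Not at hh
      simp [hh] at ha
    obtain ⟨a', ha'i, ha'ne⟩ : ∃ a' : Fin r → ℕ, a' i + 1 = a i ∧ ∀ j, j ≠ i → a' j = a j :=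
      ⟨Function.update a i (a i - 1), by rw [Function.update_self]; omega, fun j hj => Function.update_of_ne hj _ _⟩
    have hsum : ∑ j, a' j = n := by
      rw [← Finset.add_sum_erase _ _ (Finset.mem_univ i),
        Finset.sum_congr rfl fun j hj => ha'ne j (Finset.ne_of_mem_erase hj)]
      rw [← Finset.add_sum_erase _ _ (Finset.mem_univ i)] at ha
      change a' i + ∑ x ∈ Finset.univ.erase i, a x = n
      omega
    have hle' : a' ≤ ν := fun j => by
      rcases eq_or_ne j i with rfl | hj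
      · have h' : a j ≤ ν j := hle j
        show a' j ≤ ν j
        omega
      · rw [ha'ne j hj]; exact hle j
    obtain ⟨hd, hgood⟩ := ih a' hsum hle'
    set c := ∏ j, g j ^ a' j with hc
    have hprod : ∏ j, g j ^ a j = c * g i := by
      rw [hc, ← Finset.mul_prod_erase _ _ (Finset.mem_univ i), ← Finset.mul_prod_erase _ _ (Finset.mem_univ i),
        ← ha'i, pow_succ, Finset.prod_congr rfl fun j hj => by rw [← ha'ne j (Finset.ne_of_mem_erase hj)]]
      ring
    have hsumdl : ∑ j, (a j : B) • dl j = (∑ j, (a' j : B) • dl j) + dl i := by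
      rw [← Finset.add_sum_erase _ _ (Finset.mem_univ i), ← Finset.add_sum_erase _ _ (Finset.mem_univ i),
        ← ha'i, Nat.cast_succ, add_smul, one_smul,
        Finset.sum_congr rfl fun j hj => by rw [← ha'ne j (Finset.ne_of_mem_erase hj)]]
      abel
    have hinjc : ∀ p (x : M ⊗[B] ↥(⋀[B]^p L)), c • x = 0 → x = 0 := by
      rw [hc]
      refine Finset.prod_induction _ (fun c => ∀ p (x : M ⊗[B] ↥(⋀[B]^p L)), c • x = 0 → x = 0) ?_ ?_ ?_
      · intro a b ha hb p x hx
        exact hb p x (ha p _ (by rwa [mul_smul] at hx))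
      · intro p x hx; rwa [one_smul] at hx
      · intro j _
        induction a' j with
        | zero => intro p x hx; rwa [pow_zero, one_smul] at hx
        | succ m hm => intro p x hx; exact hinj j p x (hm p _ (by rwa [pow_succ, mul_smul] at hx))
    refine ⟨?_, ?_⟩
    · rw [hprod, hmul, hd, hdl, hsumdl, smul_add, smul_smul, smul_smul, mul_comm (g i) c]
      abel
    · rw [hprod]
      refine good_mul (setup_twist (v := v i) hspan ⟨dl i, hdl i⟩ (hex i) (hgen i) hleib hclosed hsq hd hinjc ?_)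
        hleib hd hinjc hgood hsq
      intro m
      obtain ⟨m', e, he⟩ := hsurj i (a' i) (by have h' : a i ≤ ν i := hle i; omega) m
      have hv : g i ∣ v i (∑ j, (a' j : B) • dl j) - (a' i : B) := by
        rw [map_sum, show ((a' i : B)) = ∑ j, (a' j : B) * (if i = j then 1 else 0) by simp, ← Finset.sum_sub_distrib]
        refine Finset.dvd_sum fun j _ => ?_
        rw [map_smul, smul_eq_mul, ← mul_sub]
        exact dvd_mul_of_dvd_right (hvdl i j) _
      obtain ⟨q, hq⟩ := hv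
      refine ⟨m', e + q • m', ?_⟩
      rw [sub_eq_iff_eq_add.1 hq, add_smul, mul_smul, smul_add]
      rw [add_comm (g i • q • m'), ← add_assoc, he]
      abel

end

end Groth.Agent.H27LogTwist
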