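import Groth.Prelude.Def_Conn
import Mathlib

/-! # The twisting quotient of a log de Rham complex is acyclic (ring level) -/

set_option autoImplicit false

universe u

open TensorProduct exteriorPower

namespace Groth.Agent.H27LogTwist

variable {B : Type u} [CommRing B] {L M : Type u} [AddCommGroup L] [Module B L] [AddCommGroup M] [Module B M]

/-- a one-form as an element of the first exterior power -/
noncomputable def one (a : L) : ↥(⋀[B]^1 L) := ιMulti B 1 ![a]

theorem coe_one' (a : L) : ((one (B := B) a : ↥(⋀[B]^1 L)) : ExteriorAlgebra B L) = ExteriorAlgebra.ι B a := by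
  simp [one, ExteriorAlgebra.ιMulti_apply]

theorem wedge_one_ιMulti {p : ℕ} (a : L) (ω : Fin p → L) :
    Conn.wedge p (one (B := B) a) (ιMulti B p ω) = ιMulti B (p + 1) (Fin.cons a ω) := by
  refine Subtype.ext ?_
  rw [Conn.wedge_apply_coe, coe_one', ιMulti_apply_coe, ιMulti_apply_coe, ExteriorAlgebra.ιMulti_succ_apply]
  simp [Matrix.vecTail, Function.comp_def]

theorem exists_one (α : ↥(⋀[B]^1 L)) : ∃ a, α = one a := by
  obtain ⟨a, ha⟩ : (α : ExteriorAlgebra B L) ∈ LinearMap.range (ExteriorAlgebra.ι B : L →ₗ[B] ExteriorAlgebra B L) := by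
    simpa [ExteriorAlgebra.exteriorPower] using α.2
  exact ⟨a, Subtype.ext (by rw [coe_one']; exact ha.symm)⟩

variable (v : L →ₗ[B] B)

theorem contract_mem : ∀ (p : ℕ) (x : ↥(⋀[B]^(p + 1) L)),
    CliffordAlgebra.contractLeft (Q := (0 : QuadraticForm B L)) v (x : ExteriorAlgebra B L) ∈ ⋀[B]^p L := by
  have hgen : ∀ (p : ℕ) (ω : Fin (p + 1) → L),
      CliffordAlgebra.contractLeft (Q := (0 : QuadraticForm B L)) v (ExteriorAlgebra.ιMulti B (p + 1) ω) ∈ ⋀[B]^p L := by
    intro p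
    induction p with
    | zero =>
      intro ω
      rw [ExteriorAlgebra.ιMulti_succ_apply, ExteriorAlgebra.ιMulti_zero_apply, mul_one,
        CliffordAlgebra.contractLeft_ι]
      simpa [ExteriorAlgebra.exteriorPower] using Submodule.algebraMap_mem (R := B) (v (ω 0))
    | succ p ih =>
      intro ω
      rw [ExteriorAlgebra.ιMulti_succ_apply, CliffordAlgebra.contractLeft_ι_mul]
      refine Submodule.sub_mem _ (Submodule.smul_mem _ _ (ιMulti B (p + 1) (Matrix.vecTail ω)).2) ?_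
      have h := SetLike.mul_mem_graded (A := fun i : ℕ => ⋀[B]^i L)
        (one (B := B) (ω 0)).2 (ih (Matrix.vecTail ω))
      rw [coe_one', add_comm] at h
      exact h
  intro p x
  have hx : x ∈ Submodule.span B (Set.range (ιMulti B (p + 1) (M := L))) := by rw [ιMulti_span]; trivial
  induction hx using Submodule.span_induction with
  | mem y hy => obtain ⟨ω, rfl⟩ := hy; rw [ιMulti_apply_coe]; exact hgen p ω
  | zero => rw [Submodule.coe_zero, map_zero]; exact Submodule.zero_mem _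
  | add a b _ _ ha hb => rw [Submodule.coe_add, map_add]; exact Submodule.add_mem _ ha hb
  | smul c a _ ha => rw [Submodule.coe_smul, map_smul]; exact Submodule.smul_mem _ _ ha

/-- contraction with `v` -/
noncomputable def ctr (p : ℕ) : ↥(⋀[B]^(p + 1) L) →ₗ[B] ↥(⋀[B]^p L) :=
  ((CliffordAlgebra.contractLeft (Q := (0 : QuadraticForm B L)) v).comp (⋀[B]^(p + 1) L).subtype).codRestrict _
    (contract_mem v p)

theorem ctr_coe (p : ℕ) (x : ↥(⋀[B]^(p + 1) L)) :
    (ctr v p x : ExteriorAlgebra B L) = CliffordAlgebra.contractLeft (Q := (0 : QuadraticForm B L)) v x := rfl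

theorem ctr_wedge_zero (a : L) (η : ↥(⋀[B]^0 L)) : ctr v 0 (Conn.wedge 0 (one a) η) = v a • η := by
  refine Subtype.ext ?_
  obtain ⟨c, hc⟩ : ∃ c, algebraMap B (ExteriorAlgebra B L) c = η := by
    have := η.2
    simp only [ExteriorAlgebra.exteriorPower, pow_zero] at this
    exact Submodule.mem_one.1 this
  rw [ctr_coe, Conn.wedge_apply_coe, coe_one', Submodule.coe_smul, ← hc, CliffordAlgebra.contractLeft_mul_algebraMap,
    CliffordAlgebra.contractLeft_ι, Algebra.smul_def]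

theorem ctr_wedge_succ (p : ℕ) (a : L) (η : ↥(⋀[B]^(p + 1) L)) :
    ctr v (p + 1) (Conn.wedge (p + 1) (one a) η) = v a • η - Conn.wedge p (one a) (ctr v p η) := by
  refine Subtype.ext ?_
  rw [ctr_coe, Conn.wedge_apply_coe, coe_one', Submodule.coe_sub, Submodule.coe_smul, Conn.wedge_apply_coe, coe_one',
    ctr_coe, CliffordAlgebra.contractLeft_ι_mul]

variable (M)

/-- contraction on `M ⊗ ⋀L` -/
noncomputable def ictr (p : ℕ) : M ⊗[B] ↥(⋀[B]^(p + 1) L) →ₗ[B] M ⊗[B] ↥(⋀[B]^p L) :=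
  (ctr v p).lTensor M

/-- wedging `M ⊗ ⋀L` with a one-form -/
noncomputable def wdg (p : ℕ) (a : L) : M ⊗[B] ↥(⋀[B]^p L) →ₗ[B] M ⊗[B] ↥(⋀[B]^(p + 1) L) :=
  (Conn.wedge p (one (B := B) a)).lTensor M

/-- `M ⊗ ⋀⁰L = M` -/
noncomputable def e0 : M ⊗[B] ↥(⋀[B]^0 L) ≃ₗ[B] M :=
  TensorProduct.congr (LinearEquiv.refl B M) (zeroEquiv B L) ≪≫ₗ TensorProduct.rid B M

variable {M}

theorem e0_tmul_one (m : M) : e0 (L := L) (B := B) M (m ⊗ₜ ιMulti B 0 ![]) = m := by
  simp [e0, zeroEquiv_ιMulti]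

theorem e0_symm_apply (m : M) : (e0 (L := L) (B := B) M).symm m = m ⊗ₜ ιMulti B 0 ![] := by
  rw [LinearEquiv.symm_apply_eq, e0_tmul_one]

theorem ictr_tmul (p : ℕ) (m : M) (w : ↥(⋀[B]^(p + 1) L)) : ictr M v p (m ⊗ₜ w) = m ⊗ₜ ctr v p w := rfl

theorem wdg_tmul (p : ℕ) (a : L) (m : M) (w : ↥(⋀[B]^p L)) : wdg M p a (m ⊗ₜ w) = m ⊗ₜ Conn.wedge p (one a) w := rfl

theorem ictr_wdg_zero (a : L) (x : M ⊗[B] ↥(⋀[B]^0 L)) : ictr M v 0 (wdg M 0 a x) = v a • x := by
  induction x using TensorProduct.induction_on with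
  | zero => simp
  | tmul m w => rw [wdg_tmul, ictr_tmul, ctr_wedge_zero, TensorProduct.tmul_smul]
  | add x y hx hy => simp [hx, hy]

theorem ictr_wdg_succ (p : ℕ) (a : L) (x : M ⊗[B] ↥(⋀[B]^(p + 1) L)) :
    ictr M v (p + 1) (wdg M (p + 1) a x) = v a • x - wdg M p a (ictr M v p x) := by
  induction x using TensorProduct.induction_on with
  | zero => simp
  | tmul m w => rw [wdg_tmul, ictr_tmul, ctr_wedge_succ, tmul_sub, TensorProduct.tmul_smul, ictr_tmul, wdg_tmul]
  | add x y hx hy => simp [hx, hy]; abel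

/-- the scalar part of a vector valued one-form -/
noncomputable def th (v : L →ₗ[B] B) (τ : M ⊗[B] ↥(⋀[B]^1 L)) : M := e0 M (ictr M v 0 τ)

theorem ictr_twedge_zero (τ : M ⊗[B] ↥(⋀[B]^1 L)) (η : ↥(⋀[B]^0 L)) :
    ictr M v 0 (Conn.twedge 0 τ η) = th v τ ⊗ₜ η := by
  induction τ using TensorProduct.induction_on with
  | zero => simp [th]
  | tmul m α =>
    obtain ⟨a, rfl⟩ := exists_one α
    rw [Conn.twedge_tmul, ictr_tmul, ctr_wedge_zero, th, ictr_tmul]
    have : ctr v 0 (one a) = v a • ιMulti B 0 ![] := by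
      have h := ctr_wedge_zero v a (ιMulti B 0 ![])
      rwa [wedge_one_ιMulti, show Fin.cons a ![] = ![a] from rfl] at h
    rw [this, TensorProduct.tmul_smul, TensorProduct.tmul_smul, map_smul, e0_tmul_one, smul_tmul']
  | add x y hx hy =>
    rw [map_add, LinearMap.add_apply, map_add, hx, hy, th, th, th, map_add, map_add, add_tmul]

theorem ictr_twedge_succ (p : ℕ) (τ : M ⊗[B] ↥(⋀[B]^1 L)) (η : ↥(⋀[B]^(p + 1) L)) :
    ictr M v (p + 1) (Conn.twedge (p + 1) τ η) = th v τ ⊗ₜ η - Conn.twedge p τ (ctr v p η) := by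
  induction τ using TensorProduct.induction_on with
  | zero => simp [th]
  | tmul m α =>
    obtain ⟨a, rfl⟩ := exists_one α
    rw [Conn.twedge_tmul, ictr_tmul, ctr_wedge_succ, tmul_sub, TensorProduct.tmul_smul, Conn.twedge_tmul, th,
      ictr_tmul]
    have : ctr v 0 (one a) = v a • ιMulti B 0 ![] := by
      have h := ctr_wedge_zero v a (ιMulti B 0 ![])
      rwa [wedge_one_ιMulti, show Fin.cons a ![] = ![a] from rfl] at h
    rw [this, TensorProduct.tmul_smul, map_smul, e0_tmul_one, smul_tmul']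
  | add x y hx hy =>
    rw [map_add, LinearMap.add_apply, map_add, hx, hy, th, th, th, map_add, map_add, add_tmul, map_add,
      LinearMap.add_apply]
    abel

/-- The hypotheses of the acyclicity. -/
structure Setup (v : L →ₗ[B] B) (S : Set L) (g : B)
    (dB : B → L) (D : ∀ p : ℕ, M ⊗[B] ↥(⋀[B]^p L) →+ M ⊗[B] ↥(⋀[B]^(p + 1) L))
    (nab : M → M ⊗[B] ↥(⋀[B]^1 L)) : Prop where
  span : Submodule.span B S = ⊤
  dlog : ∃ a : L, dB g = g • a
  v_exact : ∀ t, g ∣ v (dB t)
  v_gen : ∀ s ∈ S, ∃ n : ℤ, g ∣ v s - n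
  leib : ∀ p t x, D p (t • x) = t • D p x + wdg M p (dB t) x
  closed : ∀ p (m : M) (s : Fin p → L), (∀ i, s i ∈ S) →
    D p (m ⊗ₜ ιMulti B p s) = Conn.twedge p (nab m) (ιMulti B p s)
  sq : ∀ p x, D (p + 1) (D p x) = 0
  surj : ∀ m : M, ∃ m' c : M, th v (nab m') = m + g • c

section

variable {v} {S : Set L} {g : B} {dB : B → L} {D : ∀ p : ℕ, M ⊗[B] ↥(⋀[B]^p L) →+ M ⊗[B] ↥(⋀[B]^(p + 1) L)}
  {nab : M → M ⊗[B] ↥(⋀[B]^1 L)}

variable (g) in
/-- multiples of `g` -/
noncomputable abbrev G (p : ℕ) : Submodule B (M ⊗[B] ↥(⋀[B]^p L)) :=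
  LinearMap.range (LinearMap.lsmul B (M ⊗[B] ↥(⋀[B]^p L)) g)

theorem G_of_dvd {p : ℕ} {c : B} (h : g ∣ c) (x : M ⊗[B] ↥(⋀[B]^p L)) : c • x ∈ G (M := M) g p := by
  obtain ⟨e, rfl⟩ := h
  exact ⟨e • x, by rw [LinearMap.lsmul_apply, mul_smul]⟩

variable (h : Setup v S g dB D nab)

include h

theorem D_G {p : ℕ} {x : M ⊗[B] ↥(⋀[B]^p L)} (hx : x ∈ G (M := M) g p) : D p x ∈ G (M := M) g (p + 1) := by
  obtain ⟨y, rfl⟩ := hx
  obtain ⟨a, ha⟩ := h.dlog
  rw [LinearMap.lsmul_apply, h.leib, ha]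
  refine Submodule.add_mem _ ⟨_, rfl⟩ ⟨wdg M p a y, ?_⟩
  rw [LinearMap.lsmul_apply, wdg, wdg, one, one]
  have hup : ιMulti B 1 ![g • a] = g • ιMulti B 1 ![a] := by
    refine Subtype.ext ?_
    simp [ExteriorAlgebra.ιMulti_succ_apply]
  rw [hup, map_smul, LinearMap.lTensor_smul, LinearMap.smul_apply]

theorem ictr_G {p : ℕ} {x : M ⊗[B] ↥(⋀[B]^(p + 1) L)} (hx : x ∈ G (M := M) g (p + 1)) :
    ictr M v p x ∈ G (M := M) g p := by
  obtain ⟨y, rfl⟩ := hx
  exact ⟨ictr M v p y, by simp⟩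

theorem th_nab (m : M) : th v (nab m) = e0 M (ictr M v 0 (D 0 ((e0 (L := L) (B := B) M).symm m))) := by
  rw [e0_symm_apply, h.closed 0 m ![] (fun i => i.elim0), ictr_twedge_zero, e0_tmul_one]

theorem th_add (m m' : M) : th v (nab (m + m')) = th v (nab m) + th v (nab m') := by
  rw [th_nab h, th_nab h, th_nab h, map_add, map_add, map_add, map_add]

theorem th_smul (t : B) (m : M) : th v (nab (t • m)) = t • th v (nab m) + v (dB t) • m := by
  rw [th_nab h, th_nab h, map_smul, h.leib, map_add, map_add, map_smul, map_smul, ictr_wdg_zero, map_smul,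
    LinearEquiv.apply_symm_apply]

/-- the residue on `M ⊗ ⋀L` modulo `g` -/
noncomputable def Θ (p : ℕ) : M ⊗[B] ↥(⋀[B]^p L) →ₗ[B] (M ⊗[B] ↥(⋀[B]^p L)) ⧸ G (M := M) g p :=
  TensorProduct.lift (LinearMap.mk₂ B (fun m w => Submodule.Quotient.mk (th v (nab m) ⊗ₜ w))
    (fun m m' w => by rw [th_add h, add_tmul, Submodule.Quotient.mk_add])
    (fun t m w => by
      rw [th_smul h, add_tmul, Submodule.Quotient.mk_add,
        (Submodule.Quotient.mk_eq_zero _).2 (show (v (dB t) • m) ⊗ₜ[B] w ∈ G (M := M) g p by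
          rw [← smul_tmul']; exact G_of_dvd (h.v_exact t) _),
        add_zero, ← smul_tmul', Submodule.Quotient.mk_smul])
    (fun m w w' => by rw [tmul_add, Submodule.Quotient.mk_add])
    (fun t m w => by rw [TensorProduct.tmul_smul, Submodule.Quotient.mk_smul]))

theorem Θ_tmul (p : ℕ) (m : M) (w : ↥(⋀[B]^p L)) :
    Θ h p (m ⊗ₜ w) = Submodule.Quotient.mk (th v (nab m) ⊗ₜ w) := rfl

theorem Θ_surjective (p : ℕ) : Function.Surjective (Θ h p) := by
  intro q
  obtain ⟨x, rfl⟩ := Submodule.Quotient.mk_surjective _ q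
  induction x using TensorProduct.induction_on with
  | zero => exact ⟨0, by simp⟩
  | tmul m w =>
    obtain ⟨m', c, hc⟩ := h.surj m
    refine ⟨m' ⊗ₜ w, ?_⟩
    rw [Θ_tmul, hc, add_tmul, Submodule.Quotient.mk_add,
      (Submodule.Quotient.mk_eq_zero _).2 (show (g • c) ⊗ₜ[B] w ∈ G (M := M) g p by
        rw [← smul_tmul']; exact G_of_dvd dvd_rfl _), add_zero]
  | add x y hx hy =>
    obtain ⟨a, ha⟩ := hx
    obtain ⟨b, hb⟩ := hy
    exact ⟨a + b, by rw [map_add, ha, hb, Submodule.Quotient.mk_add]⟩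

theorem Θ_injective [Module.Finite B M] [Module.Finite B L] (p : ℕ) {x : M ⊗[B] ↥(⋀[B]^p L)}
    (hx : Θ h p x = 0) : x ∈ G (M := M) g p := by
  have hker : G (M := M) g p ≤ LinearMap.ker (Θ h p) := by
    rintro _ ⟨y, rfl⟩
    obtain ⟨z, hz⟩ := Submodule.Quotient.mk_surjective _ (Θ h p y)
    rw [LinearMap.mem_ker, LinearMap.lsmul_apply, map_smul, ← hz, ← Submodule.Quotient.mk_smul,
      Submodule.Quotient.mk_eq_zero]
    exact G_of_dvd dvd_rfl z
  let e := (G (M := M) g p).liftQ (Θ h p) hker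
  have he : Function.Surjective e := fun q => by
    obtain ⟨y, hy⟩ := Θ_surjective h p q
    exact ⟨Submodule.Quotient.mk y, hy⟩
  have := OrzechProperty.injective_of_surjective_endomorphism e he
  rw [← Submodule.Quotient.mk_eq_zero]
  exact this (a₁ := Submodule.Quotient.mk x) (a₂ := 0) (hx.trans (map_zero e).symm)

omit h in
variable (B L) in
/-- integral combinations of wedges of the closed generators -/
noncomputable def Z (S : Set L) (p : ℕ) : AddSubgroup ↥(⋀[B]^p L) :=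
  AddSubgroup.closure (ιMulti B p '' {s | ∀ i, s i ∈ S})

theorem closed_Z {p : ℕ} (m : M) {z : ↥(⋀[B]^p L)} (hz : z ∈ Z B L S p) :
    D p (m ⊗ₜ z) = Conn.twedge p (nab m) z := by
  induction hz using AddSubgroup.closure_induction with
  | mem y hy => obtain ⟨s, hs, rfl⟩ := hy; exact h.closed p m s hs
  | zero => simp
  | add a b _ _ ha hb => rw [tmul_add, map_add, ha, hb, map_add]
  | neg a _ ha => rw [tmul_neg, map_neg, ha, map_neg]

theorem exists_ctr_Z : ∀ (p : ℕ) (s : Fin (p + 1) → L), (∀ i, s i ∈ S) →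
    ∃ z ∈ Z B L S p, ∃ c : ↥(⋀[B]^p L), ctr v p (ιMulti B (p + 1) s) = z + g • c := by
  intro p
  induction p with
  | zero =>
    intro s hs
    obtain ⟨n, e, he⟩ := h.v_gen (s 0) (hs 0)
    refine ⟨n • ιMulti B 0 (Fin.tail s),
      AddSubgroup.zsmul_mem _ (AddSubgroup.subset_closure (Set.mem_image_of_mem _ fun i => i.elim0)) n,
      e • ιMulti B 0 (Fin.tail s), ?_⟩
    rw [← Fin.cons_self_tail s, ← wedge_one_ιMulti, ctr_wedge_zero, Fin.tail_cons,
      ← Int.cast_smul_eq_zsmul B n, smul_smul, ← add_smul, ← he, add_sub_cancel]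
  | succ p ih =>
    intro s hs
    obtain ⟨n, e, he⟩ := h.v_gen (s 0) (hs 0)
    obtain ⟨z, hz, c, hc⟩ := ih (Fin.tail s) fun i => hs i.succ
    have hw : ∀ z ∈ Z B L S p, Conn.wedge p (one (s 0)) z ∈ Z B L S (p + 1) := by
      intro z hz
      induction hz using AddSubgroup.closure_induction with
      | mem y hy =>
        obtain ⟨t, ht, rfl⟩ := hy
        rw [wedge_one_ιMulti]
        exact AddSubgroup.subset_closure (Set.mem_image_of_mem _ (Fin.cases (hs 0) ht))
      | zero => rw [map_zero]; exact zero_mem _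
      | add a b _ _ ha hb => rw [map_add]; exact add_mem ha hb
      | neg a _ ha => rw [map_neg]; exact neg_mem ha
    refine ⟨n • ιMulti B (p + 1) (Fin.tail s) - Conn.wedge p (one (s 0)) z, sub_mem
      (AddSubgroup.zsmul_mem _ (AddSubgroup.subset_closure (Set.mem_image_of_mem _
        (show Fin.tail s ∈ {t : Fin (p + 1) → L | ∀ i, t i ∈ S} from fun i => hs i.succ))) n)
      (hw z hz), e • ιMulti B (p + 1) (Fin.tail s) - Conn.wedge p (one (s 0)) c, ?_⟩
    conv_lhs => rw [← Fin.cons_self_tail s, ← wedge_one_ιMulti, ctr_wedge_succ, hc, map_add, map_smul]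
    rw [show v (s 0) = (n : B) + g * e by rw [← he, add_sub_cancel], add_smul, mul_smul, smul_sub,
      Int.cast_smul_eq_zsmul]
    abel

theorem homotopy_zero (x : M ⊗[B] ↥(⋀[B]^0 L)) : Submodule.Quotient.mk (ictr M v 0 (D 0 x)) = Θ h 0 x := by
  obtain ⟨m, rfl⟩ := (e0 (L := L) (B := B) M).symm.surjective x
  rw [e0_symm_apply, h.closed 0 m ![] (fun i => i.elim0), ictr_twedge_zero, Θ_tmul]

theorem homotopy_succ (p : ℕ) (x : M ⊗[B] ↥(⋀[B]^(p + 1) L)) :
    Submodule.Quotient.mk (ictr M v (p + 1) (D (p + 1) x) + D p (ictr M v p x)) = Θ h (p + 1) x := by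
  let T : Submodule B (M ⊗[B] ↥(⋀[B]^(p + 1) L)) :=
    { carrier := {x | Submodule.Quotient.mk (ictr M v (p + 1) (D (p + 1) x) + D p (ictr M v p x)) = Θ h (p + 1) x}
      zero_mem' := by simp
      add_mem' := fun {a b} ha hb => by
        simp only [Set.mem_setOf_eq, map_add, Submodule.Quotient.mk_add] at ha hb ⊢
        rw [← ha, ← hb]
        abel
      smul_mem' := fun t a ha => by
        simp only [Set.mem_setOf_eq] at ha ⊢
        have e : ictr M v (p + 1) (D (p + 1) (t • a)) + D p (ictr M v p (t • a)) =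
            t • (ictr M v (p + 1) (D (p + 1) a) + D p (ictr M v p a)) + v (dB t) • a := by
          rw [h.leib, map_add, map_smul, ictr_wdg_succ, map_smul, h.leib, smul_add]
          abel
        rw [e, Submodule.Quotient.mk_add, Submodule.Quotient.mk_smul, ha, map_smul,
          (Submodule.Quotient.mk_eq_zero _).2 (G_of_dvd (h.v_exact t) a), add_zero] }
  suffices ⊤ ≤ T from this (Submodule.mem_top (x := x))
  rw [← TensorProduct.span_tmul_eq_top, Submodule.span_le]
  rintro _ ⟨m, w, rfl⟩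
  have hw : w ∈ Submodule.span B (ιMulti B (p + 1) '' {a | Set.range a ⊆ S}) := by
    rw [ιMulti_span_of_span B (p + 1) L h.span]; trivial
  induction hw using Submodule.span_induction with
  | zero => rw [tmul_zero]; exact T.zero_mem
  | add a b _ _ ha hb => rw [tmul_add]; exact T.add_mem ha hb
  | smul c a _ ha => rw [TensorProduct.tmul_smul]; exact T.smul_mem c ha
  | mem y hy =>
    obtain ⟨s, hs, rfl⟩ := hy
    have hs' : ∀ i, s i ∈ S := fun i => hs ⟨i, rfl⟩
    obtain ⟨z, hz, c, hc⟩ := exists_ctr_Z h p s hs'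
    show Submodule.Quotient.mk _ = _
    rw [h.closed (p + 1) m s hs', ictr_twedge_succ, ictr_tmul, hc, Θ_tmul, tmul_add, map_add, map_add,
      closed_Z h m hz, TensorProduct.tmul_smul, map_smul, Submodule.Quotient.eq]
    have h1 : g • Conn.twedge p (nab m) c ∈ G (M := M) g (p + 1) := G_of_dvd dvd_rfl _
    have h2 : D p (g • (m ⊗ₜ[B] c)) ∈ G (M := M) g (p + 1) := D_G h (G_of_dvd dvd_rfl _)
    convert Submodule.sub_mem _ h2 h1 using 1
    abel

/-- A cocycle modulo `g` is a coboundary modulo `g`: degree zero. -/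
theorem acyclic_zero [Module.Finite B M] [Module.Finite B L] {x : M ⊗[B] ↥(⋀[B]^0 L)}
    (hx : D 0 x ∈ G (M := M) g 1) : x ∈ G (M := M) g 0 :=
  Θ_injective h 0 (by rw [← homotopy_zero h, Submodule.Quotient.mk_eq_zero]; exact ictr_G h hx)

/-- A cocycle modulo `g` is a coboundary modulo `g`: positive degree. -/
theorem acyclic_succ [Module.Finite B M] [Module.Finite B L] (p : ℕ) {x : M ⊗[B] ↥(⋀[B]^(p + 1) L)}
    (hx : D (p + 1) x ∈ G (M := M) g (p + 2)) :
    ∃ y, x - D p y ∈ G (M := M) g (p + 1) := by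
  obtain ⟨x', hx'⟩ := Θ_surjective h (p + 1) (Submodule.Quotient.mk x)
  have hh := homotopy_succ h p x'
  rw [hx', Submodule.Quotient.eq] at hh
  have hD : D (p + 2) (D (p + 1) x') = 0 := h.sq (p + 1) x'
  have h1 : D (p + 1) x' ∈ G (M := M) g (p + 2) := by
    refine Θ_injective h (p + 2) ?_
    have h2 := homotopy_succ h (p + 1) (D (p + 1) x')
    rw [hD, map_zero, zero_add] at h2
    rw [← h2, Submodule.Quotient.mk_eq_zero]
    have h3 := D_G h hh
    rw [map_sub, map_add, h.sq, add_zero] at h3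
    simpa using Submodule.add_mem _ h3 hx
  refine ⟨ictr M v p x', ?_⟩
  have h4 := Submodule.sub_mem _ (ictr_G h h1) hh
  convert h4 using 1
  abel

end

end Groth.Agent.H27LogTwist
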