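import Groth.Agent.H27LogTwist.Chain
import Groth.Agent.H27LogTwist.Sections
import Mathlib

/-! # The logarithmic de Rham complex on a chart -/

set_option autoImplicit false
set_option linter.style.haveILetI false
set_option backward.isDefEq.respectTransparency false

universe u

open CategoryTheory CategoryTheory.Limits AlgebraicGeometry TopologicalSpace Opposite
open scoped TensorProduct

namespace Groth.Agent.H27LogTwist

open Groth.Agent.H27LogNCD exteriorPower

variable {X S : Scheme.{u}} {f : X ⟶ S} {Ω : X.Modules} {d : OmegaSh.Der f Ω} {r : ℕ}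
  {D : Fin r → X.IdealSheafData}

/-- An affine open on which everything is free and explicit. -/
structure Chart (Λ : LogNCD.LogMod d D) (E : X.Modules) (U : X.Opens) (g : Fin r → Γ(X, U))
    (dl : Fin r → Γ(Λ.L, U)) : Prop where
  frame : IsFrame d Λ.ι Λ.res U g dl
  base : ∃ V0 : S.Opens, IsAffineOpen V0 ∧ U ≤ f ⁻¹ᵁ V0
  regular : ∀ i, IsRegular (g i)
  basE : ∃ (n : ℕ) (b : Fin n → Γ(E, U)), OBas E U b
  basL : ∃ (n : ℕ) (b : Fin n → Γ(Λ.L, U)), OBas Λ.L U b

theorem exists_chart_near (hd : OmegaSh.IsUniversal d) (hD : LogNCD.IsNCD D f) [Smooth f]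
    (Λ : LogNCD.LogMod d D) {E : X.Modules} (hE : FlatMod.IsFinLocFree E) (W : X.Opens) (x : X) (hx : x ∈ W) :
    ∃ (U : X.Opens) (g : Fin r → Γ(X, U)) (dl : Fin r → Γ(Λ.L, U)),
      x ∈ U ∧ U ≤ W ∧ Chart Λ E U g dl := by
  classical
  obtain ⟨_, ⟨V0, hV0, rfl⟩, hxV0, -⟩ :=
    S.isBasis_affineOpens.exists_subset_of_mem_open (Set.mem_univ (f x)) isOpen_univ
  obtain ⟨UE, nE, bE, hxE, hbE⟩ := exists_obas hE x
  obtain ⟨UL, nL, bL, hxL, hbL⟩ := exists_obas (isFinLocFree_logMod hd hD Λ) x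
  let W' : X.Opens := W ⊓ f ⁻¹ᵁ V0 ⊓ UE ⊓ UL
  have hxW' : x ∈ W' := ⟨⟨⟨hx, hxV0⟩, hxE⟩, hxL⟩
  suffices ∃ (U : X.Opens) (g : Fin r → Γ(X, U)), x ∈ U ∧ U ≤ W' ∧ ∃ hU : IsAffineOpen U,
      (∀ i, (D i).ideal ⟨U, hU⟩ = Ideal.span {g i}) ∧ ∀ i, IsRegular (g i) by
    obtain ⟨U, g, hxU, hle, hU, hI, hreg⟩ := this
    obtain ⟨dl, hf⟩ := logMod_frame Λ hU hI
    exact ⟨U, g, dl, hxU, fun y hy => (hle hy).1.1.1, hf, ⟨V0, hV0, fun y hy => (hle hy).1.1.2⟩, hreg,
      ⟨nE, _, hbE.res (fun y hy => (hle hy).1.2)⟩, ⟨nL, _, hbL.res (fun y hy => (hle hy).2)⟩⟩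
  by_cases hth : Nonempty (LogNCD.Through D x)
  · obtain ⟨W₁, hxW₁, n, v, e, -, het, hthru, hoff⟩ := hD x hth
    obtain ⟨U, hU, hxU, hle⟩ := exists_isAffineOpen_mem_and_subset (show x ∈ W' ⊓ W₁ from ⟨hxW', hxW₁⟩)
    have h1 : U ≤ W₁ := fun y hy => (hle hy).2
    refine ⟨U, fun i => if h : x ∈ (D i).support then LogNCD.sectOn W₁ h1 (v ⟨e ⟨i, h⟩⟩) else 1, hxU,
      fun y hy => (hle hy).1, hU, fun i => ?_, fun i => ?_⟩
    · beta_reduce
      by_cases hi : x ∈ (D i).support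
      · rw [dif_pos hi]; exact hthru ⟨i, hi⟩ ⟨U, hU⟩ h1
      · rw [dif_neg hi, Ideal.span_singleton_one]; exact hoff i hi ⟨U, hU⟩ h1
    · beta_reduce
      by_cases hi : x ∈ (D i).support
      · rw [dif_pos hi]
        exact isRegular_coord v het hU h1 hV0 (fun y hy => ((hle hy).1).1.1.2) _
      · rw [dif_neg hi]; exact isRegular_one
  · have hx0 : x ∈ U0 D := mem_U0.2 fun i hi => hth ⟨⟨i, hi⟩⟩
    obtain ⟨U, hU, hxU, hle⟩ := exists_isAffineOpen_mem_and_subset (show x ∈ W' ⊓ U0 D from ⟨hxW', hx0⟩)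
    refine ⟨U, fun _ => 1, hxU, fun y hy => (hle hy).1, hU, fun i => ?_, fun _ => isRegular_one⟩
    have := ((isChart_one (d := d) (W := U) fun y hy => (hle hy).2) U hU le_rfl).ideal i
    simpa [rs] using this

variable {Λ : LogNCD.LogMod d D} {E : X.Modules}

/-- the logarithmic derivation on `U` -/
noncomputable abbrev dlog (Λ : LogNCD.LogMod d D) (U : X.Opens) : Γ(X, U) →+ Γ(Λ.L, U) := (LogNCD.der Λ).app U

theorem dlog_eq (U : X.Opens) (t : Γ(X, U)) : dlog Λ U t = Λ.ι.app U (d.app U t) := rfl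

theorem dlog_mul (U : X.Opens) (a b : Γ(X, U)) :
    dlog Λ U (a * b) = a • dlog Λ U b + b • dlog Λ U a := (LogNCD.der Λ).d_mul a b

theorem dlog_one (U : X.Opens) : dlog Λ U 1 = 0 := (LogNCD.der Λ).d_one (op U)

theorem dlog_res {U V : X.Opens} (h : V ≤ U) (t : Γ(X, U)) :
    rm Λ.L h (dlog Λ U t) = dlog Λ V (rs h t) := (app_res_der (LogNCD.der Λ) h t).symm

theorem rm_sum {M : X.Modules} {U V : X.Opens} (h : V ≤ U) {ι : Type*} (s : Finset ι) (z : ι → Γ(M, U)) :
    rm M h (∑ i ∈ s, z i) = ∑ i ∈ s, rm M h (z i) := map_sum _ _ _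

/-- `E(U) ⊗ ⋀^p L(U)` -/
abbrev NN (Λ : LogNCD.LogMod d D) (E : X.Modules) (U : X.Opens) (p : ℕ) : Type u :=
  Γ(E, U) ⊗[Γ(X, U)] ↥(⋀[Γ(X, U)]^p Γ(Λ.L, U))

variable {nabla : Coh.toAb E ⟶ Coh.toAb (CohB1.tensorMod E Λ.L)} (K : ConnSh.Cx (LogNCD.der Λ) E nabla)

/-- restriction, read through `loc` -/
noncomputable def rho (p : ℕ) {U V : X.affineOpens} (h : V.1 ≤ U.1) :
    NN Λ E U.1 p →+ NN Λ E V.1 p where
  toFun z := K.loc p V (rm (K.term p) h ((K.loc p U).symm z))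
  map_zero' := by rw [map_zero, rm, map_zero, map_zero]
  map_add' a b := by rw [map_add, rm_add, map_add]

theorem rho_smul (p : ℕ) {U V : X.affineOpens} (h : V.1 ≤ U.1) (c : Γ(X, U.1)) (z : NN Λ E U.1 p) :
    rho K p h (c • z) = rs h c • rho K p h z := by
  show K.loc p V (rm _ h ((K.loc p U).symm (c • z))) = _
  rw [LinearEquiv.map_smul, rm_smul, LinearEquiv.map_smul]
  rfl

theorem rho_tmul (p : ℕ) {U V : X.affineOpens} (h : V.1 ≤ U.1) (e : Γ(E, U.1)) (ω : Fin p → Γ(Λ.L, U.1)) :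
    rho K p h (e ⊗ₜ ιMulti _ p ω) = rm E h e ⊗ₜ ιMulti _ p fun j => rm Λ.L h (ω j) := by
  have h1 := congrArg (K.loc p V) (K.loc_res p U V h e ω)
  rw [LinearEquiv.apply_symm_apply] at h1
  exact h1

theorem rho_injective (p : ℕ) {U V : X.affineOpens} (h : V.1 ≤ U.1)
    (hinj : Function.Injective (rs (X := X) h)) {nE nL : ℕ} {bE : Fin nE → Γ(E, U.1)} {bL : Fin nL → Γ(Λ.L, U.1)}
    (hE : OBas E U.1 bE) (hL : OBas Λ.L U.1 bL) : Function.Injective (rho K p h) := by
  classical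
  let BU := (hE.basis (le_refl U.1)).tensorProduct ((hL.basis (le_refl U.1)).exteriorPower p)
  let BV := (hE.basis h).tensorProduct ((hL.basis h).exteriorPower p)
  have key : ∀ a, rho K p h (BU a) = BV a := fun ⟨j, s⟩ => by
    simp only [BU, BV, Module.Basis.tensorProduct_apply, exteriorPower.basis_apply, exteriorPower.ιMulti_family,
      rho_tmul, Function.comp_def, OBas.basis_apply]
    simp [rm]
  refine (injective_iff_map_eq_zero _).2 fun z hz => ?_
  rw [← BU.sum_repr z, map_sum] at hz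
  simp only [rho_smul, key] at hz
  have h0 := Fintype.linearIndependent_iff.1 BV.linearIndependent _ hz
  rw [← BU.sum_repr z]
  refine Finset.sum_eq_zero fun a _ => ?_
  rw [hinj (a₁ := BU.repr z a) (a₂ := 0) (by rw [h0 a]; simp [rs]), zero_smul]

/-- the differential, read through `loc` -/
noncomputable def DU (U : X.affineOpens) (p : ℕ) : NN Λ E U.1 p →+ NN Λ E U.1 (p + 1) where
  toFun z := K.loc (p + 1) U ((K.iso (p + 1)).hom.hom.app (op U.1)
    ((K.K.d p (p + 1)).hom.app (op U.1) ((K.iso p).inv.hom.app (op U.1) ((K.loc p U).symm z))))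
  map_zero' := by simp [map_zero]
  map_add' a b := by simp [map_add]

theorem iso_hom_inv (p : ℕ) (U : X.Opens) (z : Γ(K.term p, U)) :
    (K.iso p).hom.hom.app (op U) ((K.iso p).inv.hom.app (op U) z) = z :=
  congr($((congrArg (fun φ : Coh.toAb (K.term p) ⟶ Coh.toAb (K.term p) => φ.hom.app (op U)) (K.iso p).inv_hom_id)) z)

theorem iso_inv_hom (p : ℕ) (U : X.Opens) (z : (K.K.X p).obj.obj (op U)) :
    (K.iso p).inv.hom.app (op U) ((K.iso p).hom.hom.app (op U) z) = z :=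
  congr($((congrArg (fun φ : K.K.X p ⟶ K.K.X p => φ.hom.app (op U)) (K.iso p).hom_inv_id)) z)

theorem natural {M N : Sheaf (Opens.grothendieckTopology X) AddCommGrpCat.{u}} (φ : M ⟶ N) {U V : X.Opens}
    (h : V ≤ U) (s : M.obj.obj (op U)) :
    φ.hom.app (op V) (M.obj.map (homOfLE h).op s) = N.obj.map (homOfLE h).op (φ.hom.app (op U) s) :=
  ConcreteCategory.congr_hom (φ.hom.naturality (homOfLE h).op) s

theorem DU_rho {U V : X.affineOpens} (h : V.1 ≤ U.1) (p : ℕ) (z : NN Λ E U.1 p) :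
    rho K (p + 1) h (DU K U p z) = DU K V p (rho K p h z) := by
  show K.loc (p + 1) V (rm _ h ((K.loc (p + 1) U).symm (K.loc (p + 1) U _))) =
    K.loc (p + 1) V ((K.iso (p + 1)).hom.hom.app (op V.1) ((K.K.d p (p + 1)).hom.app (op V.1)
      ((K.iso p).inv.hom.app (op V.1) ((K.loc p V).symm (K.loc p V (rm _ h ((K.loc p U).symm z)))))))
  rw [LinearEquiv.symm_apply_apply, LinearEquiv.symm_apply_apply]
  refine congrArg (K.loc (p + 1) V) ?_
  have e1 := natural (K.iso p).inv h ((K.loc p U).symm z)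
  have e2 := natural (K.K.d p (p + 1)) h ((K.iso p).inv.hom.app (op U.1) ((K.loc p U).symm z))
  have e3 := natural (K.iso (p + 1)).hom h
    ((K.K.d p (p + 1)).hom.app (op U.1) ((K.iso p).inv.hom.app (op U.1) ((K.loc p U).symm z)))
  exact (e3.symm.trans (congrArg _ (e2.symm.trans (congrArg _ e1.symm))))

theorem DU_sq (U : X.affineOpens) (p : ℕ) (z : NN Λ E U.1 p) : DU K U (p + 1) (DU K U p z) = 0 := by
  show K.loc (p + 2) U _ = 0
  simp only [DU, AddMonoidHom.coe_mk, ZeroHom.coe_mk, LinearEquiv.symm_apply_apply, iso_inv_hom]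
  rw [← ConcreteCategory.comp_apply ((K.K.d p (p + 1)).hom.app (op U.1))]
  have : (K.K.d p (p + 1)).hom.app (op U.1) ≫ (K.K.d (p + 1) (p + 1 + 1)).hom.app (op U.1) = 0 := by
    rw [← NatTrans.comp_app]
    exact congrArg (fun φ : K.K.X p ⟶ K.K.X (p + 1 + 1) => φ.hom.app (op U.1)) (K.K.d_comp_d p (p + 1) (p + 1 + 1))
  rw [this]
  simp

/-- `∇ e` in `E ⊗ ⋀¹ L` -/
noncomputable def nab1 (U : X.affineOpens) (e : Γ(E, U.1)) : NN Λ E U.1 1 :=
  K.loc 1 U (K.iso1.inv.app U.1 (ConnSh.secApp nabla U.1 e))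

theorem nab1_rho {U V : X.affineOpens} (h : V.1 ≤ U.1) (e : Γ(E, U.1)) :
    rho K 1 h (nab1 K U e) = nab1 K V (rm E h e) := by
  show K.loc 1 V (rm _ h ((K.loc 1 U).symm (K.loc 1 U _))) = K.loc 1 V _
  rw [LinearEquiv.symm_apply_apply]
  refine congrArg (K.loc 1 V) ?_
  refine (app_mapM K.iso1.inv h _).symm.trans (congrArg (K.iso1.inv.app V.1) ?_)
  exact (natural nabla h e).symm

theorem rule' (U : X.affineOpens) (p : ℕ) (e : Γ(E, U.1)) (b₀ : Γ(X, U.1)) (b : Fin p → Γ(X, U.1)) :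
    DU K U p (e ⊗ₜ (b₀ • ιMulti _ p fun i => dlog Λ U.1 (b i))) =
      Conn.twedge p (nab1 K U e) (b₀ • ιMulti _ p fun i => dlog Λ U.1 (b i)) +
        e ⊗ₜ ιMulti _ (p + 1) (Fin.cons (dlog Λ U.1 b₀) fun i => dlog Λ U.1 (b i)) := by
  simp only [DU, AddMonoidHom.coe_mk, ZeroHom.coe_mk]
  rw [K.rule p U e b₀ b, iso_hom_inv, LinearEquiv.apply_symm_apply]
  rfl

/-- the forms without poles span on an affine open where the equations are units -/
theorem span_dlog (hd : OmegaSh.IsUniversal d) {U : X.Opens} {g : Fin r → Γ(X, U)} {dl : Fin r → Γ(Λ.L, U)}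
    (hc : IsFrame d Λ.ι Λ.res U g dl) {V0 : S.Opens} (hV0 : IsAffineOpen V0) (h : U ≤ f ⁻¹ᵁ V0) :
    Submodule.span Γ(X, U) (Set.range dl ∪ Set.range (dlog Λ U)) = ⊤ := by
  rw [eq_top_iff]
  intro s hs'
  clear hs'
  obtain ⟨η, a, rfl⟩ := hc.gen s
  refine Submodule.add_mem _ ?_ (Submodule.sum_mem _ fun i _ =>
    Submodule.smul_mem _ _ (Submodule.subset_span (Or.inl ⟨i, rfl⟩)))
  have hη := mem_span_der d hd hc.affine hV0 h η
  induction hη using Submodule.span_induction with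
  | mem y hy => obtain ⟨t, rfl⟩ := hy; exact Submodule.subset_span (Or.inr ⟨t, rfl⟩)
  | zero => rw [map_zero]; exact zero_mem _
  | add y y' _ _ hy hy' => rw [map_add]; exact add_mem hy hy'
  | smul c y _ hy => rw [Scheme.Modules.Hom.app_smul]; exact Submodule.smul_mem _ c hy

theorem wdg_tmul_ιMulti {U : X.Opens} (p : ℕ) (a : Γ(Λ.L, U)) (e : Γ(E, U)) (ω : Fin p → Γ(Λ.L, U)) :
    wdg Γ(E, U) p a (e ⊗ₜ ιMulti Γ(X, U) p ω) = e ⊗ₜ ιMulti Γ(X, U) (p + 1) (Fin.cons a ω) := by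
  rw [wdg_tmul, wedge_one_ιMulti]

theorem cons_eq_zero {U : X.Opens} {p : ℕ} (a : Γ(Λ.L, U)) (ω : Fin p → Γ(Λ.L, U))
    (ha : a ∈ Submodule.span Γ(X, U) (Set.range ω)) : ιMulti Γ(X, U) (p + 1) (Fin.cons a ω) = 0 := by
  rw [← wedge_one_ιMulti]
  induction ha using Submodule.span_induction with
  | mem y hy =>
    obtain ⟨i, rfl⟩ := hy
    rw [wedge_one_ιMulti]
    exact (ιMulti Γ(X, U) (p + 1)).map_eq_zero_of_eq _ (i := 0) (j := i.succ) (by simp) (Fin.succ_ne_zero i).symm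
  | zero => rw [show one (B := Γ(X, U)) (0 : Γ(Λ.L, U)) = 0 from Subtype.ext (by simp [coe_one']), map_zero]; rfl
  | add y y' _ _ hy hy' => rw [one_add, map_add, LinearMap.add_apply, hy, hy', add_zero]
  | smul c y _ hy => rw [one_smul', map_smul, LinearMap.smul_apply, hy, smul_zero]

/-- Leibniz rule where the equations are units -/
theorem leib_open (U : X.affineOpens) (hspan : Submodule.span Γ(X, U.1) (Set.range (dlog Λ U.1)) = ⊤) (p : ℕ)
    (t : Γ(X, U.1)) (z : NN Λ E U.1 p) :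
    DU K U p (t • z) = t • DU K U p z + wdg Γ(E, U.1) p (dlog Λ U.1 t) z := by
  have hmul : ∀ (s t : Γ(X, U.1)) (z : NN Λ E U.1 p), wdg Γ(E, U.1) p (dlog Λ U.1 (s * t)) z =
      s • wdg Γ(E, U.1) p (dlog Λ U.1 t) z + t • wdg Γ(E, U.1) p (dlog Λ U.1 s) z := fun s t z => by
    rw [dlog_mul, wdg, wdg, wdg, one_add, one_smul', one_smul', map_add, map_smul, map_smul,
      LinearMap.lTensor_add, LinearMap.lTensor_smul, LinearMap.lTensor_smul]
    rfl
  let T : Submodule Γ(X, U.1) (NN Λ E U.1 p) :=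
    { carrier := {z | ∀ t, DU K U p (t • z) = t • DU K U p z + wdg Γ(E, U.1) p (dlog Λ U.1 t) z}
      zero_mem' := fun t => by simp
      add_mem' := fun {a b} ha hb t => by rw [smul_add, map_add, ha t, hb t, map_add, map_add, smul_add]; abel
      smul_mem' := fun s a ha t => by
        rw [smul_smul, ha (t * s), ha s, smul_add, smul_smul, map_smul, hmul]
        abel }
  suffices ⊤ ≤ T from this Submodule.mem_top t
  rw [← TensorProduct.span_tmul_eq_top, Submodule.span_le]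
  rintro _ ⟨m, w, rfl⟩
  have hw : w ∈ Submodule.span Γ(X, U.1) (ιMulti Γ(X, U.1) p '' {a | Set.range a ⊆ Set.range (dlog Λ U.1)}) := by
    rw [ιMulti_span_of_span Γ(X, U.1) p Γ(Λ.L, U.1) hspan]; trivial
  induction hw using Submodule.span_induction with
  | zero => rw [TensorProduct.tmul_zero]; exact T.zero_mem
  | add a b _ _ ha hb => rw [TensorProduct.tmul_add]; exact T.add_mem ha hb
  | smul c a _ ha => rw [TensorProduct.tmul_smul]; exact T.smul_mem c ha
  | mem y hy =>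
    obtain ⟨s, hs, rfl⟩ := hy
    choose b hb using fun i => hs ⟨i, rfl⟩
    obtain rfl : (fun i => dlog Λ U.1 (b i)) = s := funext hb
    intro t
    have h1 := rule' K U p m 1 b
    rw [one_smul, dlog_one, cons_eq_zero _ _ (Submodule.zero_mem _), TensorProduct.tmul_zero, add_zero] at h1
    rw [← TensorProduct.tmul_smul, rule' K U p m t b, map_smul, ← h1, wdg_tmul_ιMulti]

/-- Wedges of unit multiples of exact forms are closed. -/
theorem closed_open (U : X.affineOpens) (p : ℕ) (m : Γ(E, U.1)) (c : Fin p → Γ(X, U.1)) (b : Fin p → Γ(X, U.1))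
    (hcb : ∀ i, dlog Λ U.1 (c i) ∈ Submodule.span Γ(X, U.1) {dlog Λ U.1 (b i)}) :
    DU K U p (m ⊗ₜ ιMulti _ p fun i => c i • dlog Λ U.1 (b i)) =
      Conn.twedge p (nab1 K U m) (ιMulti _ p fun i => c i • dlog Λ U.1 (b i)) := by
  rw [AlternatingMap.map_smul_univ, rule' K U p m (∏ i, c i) b]
  have : ιMulti Γ(X, U.1) (p + 1) (Fin.cons (dlog Λ U.1 (∏ i, c i)) fun i => dlog Λ U.1 (b i)) = 0 := by
    refine cons_eq_zero _ _ ?_
    refine Finset.prod_induction c (fun a => dlog Λ U.1 a ∈ Submodule.span Γ(X, U.1) (Set.range fun i => dlog Λ U.1 (b i)))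
      (fun a a' ha ha' => ?_) ?_ fun i _ => ?_
    · rw [dlog_mul]; exact Submodule.add_mem _ (Submodule.smul_mem _ _ ha') (Submodule.smul_mem _ _ ha)
    · rw [dlog_one]; exact Submodule.zero_mem _
    · exact Submodule.span_mono (Set.singleton_subset_iff.2 (Set.mem_range_self (f := fun i => dlog Λ U.1 (b i)) i)) (hcb i)
  rw [this, TensorProduct.tmul_zero, add_zero]

theorem rho_twedge {U V : X.affineOpens} (h : V.1 ≤ U.1) (p : ℕ) (τ : NN Λ E U.1 1) (ω : Fin p → Γ(Λ.L, U.1)) :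
    rho K (p + 1) h (Conn.twedge p τ (ιMulti _ p ω)) =
      Conn.twedge p (rho K 1 h τ) (ιMulti _ p fun j => rm Λ.L h (ω j)) := by
  induction τ using TensorProduct.induction_on with
  | zero => simp
  | tmul m α =>
    obtain ⟨a, rfl⟩ := exists_one α
    rw [Conn.twedge_tmul, wedge_one_ιMulti, rho_tmul, show one a = ιMulti Γ(X, U.1) 1 ![a] from rfl, rho_tmul,
      show (fun j => rm Λ.L h (![a] j)) = ![rm Λ.L h a] from funext fun j => by fin_cases j; rfl,
      show ιMulti Γ(X, V.1) 1 ![rm Λ.L h a] = one (rm Λ.L h a) from rfl, Conn.twedge_tmul, wedge_one_ιMulti]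
    congr 2
    exact funext (Fin.cases rfl fun _ => rfl)
  | add x y hx hy => rw [map_add, LinearMap.add_apply, map_add, hx, hy, map_add, map_add, LinearMap.add_apply]

theorem rho_wdg {U V : X.affineOpens} (h : V.1 ≤ U.1) (p : ℕ) (a : Γ(Λ.L, U.1)) (z : NN Λ E U.1 p) :
    rho K (p + 1) h (wdg Γ(E, U.1) p a z) = wdg Γ(E, V.1) p (rm Λ.L h a) (rho K p h z) := by
  induction z using TensorProduct.induction_on with
  | zero => simp
  | add x y hx hy => rw [map_add, map_add, hx, hy, map_add, map_add]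
  | tmul m w =>
    have hw : w ∈ Submodule.span Γ(X, U.1) (Set.range (ιMulti Γ(X, U.1) p (M := Γ(Λ.L, U.1)))) := by
      rw [ιMulti_span]; trivial
    induction hw using Submodule.span_induction with
    | zero => simp
    | add a b _ _ ha hb => rw [TensorProduct.tmul_add, map_add, map_add, ha, hb, map_add, map_add]
    | smul c a _ ha => rw [TensorProduct.tmul_smul, map_smul, rho_smul, ha, rho_smul, map_smul]
    | mem y hy =>
      obtain ⟨ω, rfl⟩ := hy
      rw [wdg_tmul_ιMulti, rho_tmul, rho_tmul, wdg_tmul_ιMulti]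
      congr 2
      exact funext (Fin.cases rfl fun _ => rfl)

namespace Chart

variable {U : X.Opens} {g : Fin r → Γ(X, U)} {dl : Fin r → Γ(Λ.L, U)} (hc : Chart Λ E U g dl)

include hc

theorem finite_E : Module.Finite Γ(X, U) Γ(E, U) := let ⟨_, _, hb⟩ := hc.basE; hb.finite

theorem finite_L : Module.Finite Γ(X, U) Γ(Λ.L, U) := let ⟨_, _, hb⟩ := hc.basL; hb.finite

theorem regular_prod : IsRegular (∏ i, g i) := IsRegular.prod fun i _ => hc.regular i

theorem eq_zero_of_smul {c : Γ(X, U)} (hreg : IsRegular c) (p : ℕ) (z : NN Λ E U p) (hz : c • z = 0) : z = 0 := by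
  obtain ⟨nE, bE, hE⟩ := hc.basE
  obtain ⟨nL, bL, hL⟩ := hc.basL
  let b := (hE.basis (le_refl U)).tensorProduct ((hL.basis (le_refl U)).exteriorPower p)
  refine b.repr.map_eq_zero_iff.1 (Finsupp.ext fun a => ?_)
  have := congrArg (fun y => b.repr y a) hz
  simp only [map_smul, Finsupp.smul_apply, smul_eq_mul, map_zero, Finsupp.zero_apply] at this ⊢
  exact hreg.left (this.trans (mul_zero c).symm)

omit hc in
/-- the complement of the divisor in the chart -/
noncomputable def V (hU : IsAffineOpen U) (g : Fin r → Γ(X, U)) : X.affineOpens :=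
  ⟨X.basicOpen (∏ i, g i), hU.basicOpen _⟩

omit hc in
theorem V_le (hU : IsAffineOpen U) (g : Fin r → Γ(X, U)) : (V hU g).1 ≤ U := X.basicOpen_le _

omit hc in
theorem isUnit_V (hU : IsAffineOpen U) (i : Fin r) : IsUnit (rs (V_le hU g) (g i)) :=
  isUnit_of_dvd_unit (map_dvd (X.presheaf.map (homOfLE (V_le hU g)).op).hom (Finset.dvd_prod_of_mem g (Finset.mem_univ i)))
    (RingedSpace.isUnit_res_basicOpen X.toRingedSpace (∏ i, g i))

theorem rho_V_injective (p : ℕ) :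
    Function.Injective (rho K p (U := ⟨U, hc.frame.affine⟩) (V := V hc.frame.affine g) (V_le hc.frame.affine g)) := by
  obtain ⟨nE, bE, hE⟩ := hc.basE
  obtain ⟨nL, bL, hL⟩ := hc.basL
  exact rho_injective K p (U := ⟨U, hc.frame.affine⟩) _
    (isRegular_app_injective hc.frame.affine hc.frame.ideal hc.regular_prod).2 hE hL

theorem rm_dl_V (i : Fin r) :
    ∃ u, u * rs (V_le hc.frame.affine g) (g i) = 1 ∧
      rm Λ.L (V_le hc.frame.affine g) (dl i) = u • dlog Λ _ (rs (V_le hc.frame.affine g) (g i)) := by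
  obtain ⟨u, hu⟩ := (isUnit_V (g := g) hc.frame.affine i).exists_left_inv
  refine ⟨u, hu, ?_⟩
  have h1 := congrArg (rm Λ.L (V_le hc.frame.affine g)) (hc.frame.smul_dl i)
  rw [rm_smul, ← dlog_eq, dlog_res] at h1
  rw [← h1, smul_smul, hu, one_smul]

theorem span_V (hd : OmegaSh.IsUniversal d) :
    Submodule.span Γ(X, (V hc.frame.affine g).1) (Set.range (dlog Λ (V hc.frame.affine g).1)) = ⊤ := by
  obtain ⟨V0, hV0, hle⟩ := hc.base
  obtain ⟨dl', hf⟩ : ∃ dl' : Fin r → Γ(Λ.L, (V hc.frame.affine g).1), IsFrame d Λ.ι Λ.res (V hc.frame.affine g).1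
      (fun i => rs (V_le hc.frame.affine g) (g i)) dl' :=
    logMod_frame Λ (V hc.frame.affine g).2 (g := fun i => rs (V_le hc.frame.affine g) (g i))
      fun i => ideal_res hc.frame.affine (V hc.frame.affine g).2 (V_le hc.frame.affine g) (hc.frame.ideal i)
  rw [eq_top_iff, ← span_dlog hd hf hV0 ((V_le hc.frame.affine g).trans hle), Submodule.span_le]
  rintro y (⟨i, rfl⟩ | hy)
  · obtain ⟨u, hu⟩ := (isUnit_V (g := g) hc.frame.affine i).exists_left_inv
    rw [show dl' i = u • (rs (V_le hc.frame.affine g) (g i) • dl' i) by rw [smul_smul, hu, one_smul], hf.smul_dl]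
    exact Submodule.smul_mem _ _ (Submodule.subset_span ⟨_, rfl⟩)
  · exact Submodule.subset_span hy

theorem leib (hd : OmegaSh.IsUniversal d) (p : ℕ) (t : Γ(X, U)) (z : NN Λ E U p) :
    DU K ⟨U, hc.frame.affine⟩ p (t • z) =
      t • DU K ⟨U, hc.frame.affine⟩ p z + wdg Γ(E, U) p (dlog Λ U t) z := by
  refine hc.rho_V_injective K (p + 1) ?_
  rw [map_add, DU_rho, rho_smul, rho_smul, leib_open K _ (hc.span_V hd), rho_wdg, DU_rho, dlog_res]

theorem closed (p : ℕ) (m : Γ(E, U)) (s : Fin p → Γ(Λ.L, U))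
    (hs : ∀ j, s j ∈ Set.range dl ∪ Set.range (dlog Λ U)) :
    DU K ⟨U, hc.frame.affine⟩ p (m ⊗ₜ ιMulti _ p s) =
      Conn.twedge p (nab1 K ⟨U, hc.frame.affine⟩ m) (ιMulti _ p s) := by
  refine hc.rho_V_injective K (p + 1) ?_
  rw [DU_rho, rho_tmul, rho_twedge, nab1_rho]
  have hj : ∀ j, ∃ c b : Γ(X, (V hc.frame.affine g).1), rm Λ.L (V_le hc.frame.affine g) (s j) = c • dlog Λ _ b ∧
      dlog Λ _ c ∈ Submodule.span Γ(X, (V hc.frame.affine g).1) {dlog Λ _ b} := by
    intro j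
    rcases hs j with ⟨i, hi⟩ | ⟨t, ht⟩
    · obtain ⟨u, hu, he⟩ := hc.rm_dl_V i
      refine ⟨u, rs (V_le hc.frame.affine g) (g i), hi ▸ he, Submodule.mem_span_singleton.2 ⟨-(u * u), ?_⟩⟩
      have h0 := dlog_mul (Λ := Λ) _ u (rs (V_le hc.frame.affine g) (g i))
      rw [hu, dlog_one] at h0
      have h1 := congrArg (u • ·) h0
      rw [smul_zero, smul_add, smul_smul, smul_smul, hu, one_smul] at h1
      rw [neg_smul]
      exact neg_eq_of_add_eq_zero_right h1.symm
    · exact ⟨1, rs (V_le hc.frame.affine g) t, by rw [← ht, dlog_res, one_smul],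
        by rw [dlog_one]; exact Submodule.zero_mem _⟩
  choose c b hcb hspan using hj
  simp only [hcb]
  exact closed_open K _ p (rm E (V_le hc.frame.affine g) m) c b hspan

end Chart

end Groth.Agent.H27LogTwist
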