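import Groth.Agent.H27LogNCD.Abstract
import Groth.Agent.H27LogNCD.FreeMod
import Groth.Agent.H06Unram.SmoothRank
import Groth.Agent.S5019
import Mathlib

/-!
# Local freeness of `Ω¹(log D)`, smooth morphisms of varying relative dimension
-/

set_option autoImplicit false
set_option linter.style.haveILetI false
set_option backward.isDefEq.respectTransparency false

universe u

open CategoryTheory CategoryTheory.Limits AlgebraicGeometry TopologicalSpace Opposite

namespace Groth.Agent.H27LogNCD

variable {X S : Scheme.{u}} {r : ℕ} {D : Fin r → X.IdealSheafData} {f : X ⟶ S} {Ω : X.Modules}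
  {d : OmegaSh.Der f Ω}

theorem isFinLocFree_logMod (hd : OmegaSh.IsUniversal d) (hD : LogNCD.IsNCD D f) [Smooth f]
    (Λ : LogNCD.LogMod d D) : FlatMod.IsFinLocFree Λ.L := by
  classical
  intro x
  by_cases hx : Nonempty (LogNCD.Through D x)
  · obtain ⟨W, m, v, e, g, hxW, -, hW, he, hgt, hg1, hbij, hc⟩ := exists_coord_chart hd hD x hx ⊤ trivial
    -- sections over `W`
    let ω : ULift.{u} (Fin m) → Γ(Ω, W) := fun j => d.app W (v j)
    have hωres : ∀ (V : X.Opens) (h : V ≤ W) j,
        Ω.presheaf.map (homOfLE h).op (ω j) = d.app V (rs h (v j)) := fun V h j => (app_res_der d h (v j)).symm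
    obtain ⟨dl, hfW⟩ := logMod_frame Λ hW (g := fun i => rs le_rfl (g i)) (hc W hW le_rfl).ideal
    let inv : ULift.{u} (Fin m) → Option (LogNCD.Through D x) := fun j =>
      if h : ∃ T, e T = j then some h.choose else none
    have hinv : ∀ T, inv (e T) = some T := fun T => by
      have hex : ∃ T', e T' = e T := ⟨T, rfl⟩
      simp only [inv, dif_pos hex]
      exact congrArg some (he hex.choose_spec)
    let b : ULift.{u} (Fin m) → Γ(Λ.L, W) := fun j => (inv j).elim (Λ.ι.app W (ω j)) fun T => dl T.1
    refine ⟨W, m, hxW, nonempty_iso_of_basis Λ.L (fun j : Fin m => b ⟨j⟩) fun V h hV => ?_⟩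
    let gV : Fin r → Γ(X, V) := fun i => rs h (g i)
    obtain ⟨dlV, hfV⟩ := logMod_frame Λ hV (g := gV) (hc V hV h).ideal
    let w : ULift.{u} (Fin m) → Γ(X, V) := fun j => (inv j).elim 1 fun T => gV T.1
    let bV : ULift.{u} (Fin m) → Γ(Λ.L, V) := fun j => Λ.L.presheaf.map (homOfLE h).op (b j)
    have hdlres : ∀ i, Λ.L.presheaf.map (homOfLE h).op (dl i) = dlV i := fun i =>
      logMod_smul_cancel Λ hV (hc V hV h).ideal i (by
        rw [hfV.smul_dl i]
        have h1 := congrArg (Λ.L.presheaf.map (homOfLE h).op) (hfW.smul_dl i)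
        rw [Scheme.Modules.map_smul] at h1
        have h2 : rs h (rs le_rfl (g i)) = gV i := rs_rs _ _ _
        rw [show X.presheaf.map (homOfLE h).op (rs le_rfl (g i)) = gV i from h2] at h1
        rw [h1, ← app_mapM, ← app_res_der]
        exact congrArg (fun z => Λ.ι.app V (d.app V z)) h2)
    have hwb : ∀ j, w j • bV j = Λ.ι.app V (d.app V (rs h (v j))) := fun j => by
      by_cases hj : ∃ T, e T = j
      · obtain ⟨T, rfl⟩ := hj
        simp only [w, bV, b, hinv, Option.elim_some, hdlres, hfV.smul_dl]
        simp only [gV, hgt T]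
      · have : inv j = none := dif_neg hj
        simp only [w, bV, b, this, Option.elim_none, one_smul]
        rw [← app_mapM, hωres]
    have hbres : ∀ j i, (Λ.res i).app V (bV j) =
        cls D i V (if ∃ T, e T = j ∧ T.1 = i then 1 else 0) := fun j i => by
      by_cases hj : ∃ T, e T = j
      · obtain ⟨T, rfl⟩ := hj
        simp only [bV, b, hinv, Option.elim_some, hdlres]
        by_cases hi : T.1 = i
        · rw [if_pos ⟨T, rfl, hi⟩, ← hi, hfV.res_dl]
        · rw [hfV.res_dl_ne T.1 i hi, if_neg (fun ⟨T', hT', hT''⟩ => hi (he hT' ▸ hT'')), cls_zero]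
      · have : inv j = none := dif_neg hj
        simp only [bV, b, this, Option.elim_none]
        rw [if_neg (fun ⟨T, hT, _⟩ => hj ⟨T, hT⟩), cls_zero, ← app_mapM, res_app_form Λ.res_ι]
    suffices hmain : Function.Bijective fun c : ULift.{u} (Fin m) → Γ(X, V) => ∑ j, c j • bV j by
      have hr : Function.Bijective fun c : Fin m → Γ(X, V) => fun j : ULift.{u} (Fin m) => c j.down :=
        (Equiv.arrowCongr Equiv.ulift.symm (Equiv.refl _)).bijective
      convert hmain.comp hr using 1
      funext c
      exact Fintype.sum_equiv Equiv.ulift.symm _ _ fun j => rfl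
    constructor
    · suffices ∀ c : ULift.{u} (Fin m) → Γ(X, V), ∑ j, c j • bV j = 0 → c = 0 from fun c c' hcc => sub_eq_zero.1 (this (c - c') (by
        simp only [Pi.sub_apply, sub_smul, Finset.sum_sub_distrib]
        exact sub_eq_zero.2 hcc))
      intro c hc0
      have hdvd : ∀ j, w j ∣ c j := fun j => by
        by_cases hj : ∃ T, e T = j
        · obtain ⟨T, rfl⟩ := hj
          simp only [w, hinv, Option.elim_some]
          rw [← Ideal.mem_span_singleton, ← (hc V hV h).ideal T.1]
          refine mem_ideal_of_cls_eq_zero hV ?_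
          have h1 := congrArg ((Λ.res T.1).app V) hc0
          rw [map_sum, map_zero, Finset.sum_eq_single (e T) (fun j _ hne => by
            rw [Scheme.Modules.Hom.app_smul, hbres, if_neg, cls_zero, smul_zero]
            rintro ⟨T', hT', hT''⟩
            exact hne (by rw [← hT', Subtype.ext hT'']))
            (fun hn => absurd (Finset.mem_univ _) hn), Scheme.Modules.Hom.app_smul, hbres,
            if_pos ⟨T, rfl, rfl⟩, ← cls_mul, mul_one] at h1
          exact h1
        · simp [w, show inv j = none from dif_neg hj]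
      choose c' hc' using hdvd
      have h2 : Λ.ι.app V (∑ j, c' j • d.app V (rs h (v j))) = 0 := by
        rw [← hc0, map_sum]
        refine Finset.sum_congr rfl fun j _ => ?_
        rw [Scheme.Modules.Hom.app_smul, ← hwb, smul_smul, hc' j, mul_comm]
      have h3 := (hbij V hV h).1 (a₁ := c') (a₂ := 0)
        (by simpa using ι_injective Λ V (h2.trans (map_zero _).symm))
      funext j
      rw [hc' j, h3]
      simp
    · intro s
      obtain ⟨η, a, rfl⟩ := hfV.gen s
      obtain ⟨c, rfl⟩ := (hbij V hV h).2 η
      have hzero : ∀ i, x ∉ (D i).support → dlV i = 0 := fun i hi => by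
        have h1 := hfV.smul_dl i
        simp only [gV, hg1 i hi, rs, map_one, one_smul] at h1
        rw [h1, show d.app V (1 : Γ(X, V)) = 0 from d.d_one (op V), map_zero]
      refine ⟨fun j => c j * w j + (inv j).elim 0 fun T => a T.1, ?_⟩
      simp only [add_smul, Finset.sum_add_distrib, map_sum]
      congr 1
      · refine Finset.sum_congr rfl fun j _ => ?_
        rw [mul_smul, hwb, Scheme.Modules.Hom.app_smul]
      · let F : Finset (Fin r) := Finset.univ.filter fun i => x ∈ (D i).support
        rw [show ∑ i, a i • dlV i = ∑ i ∈ F, a i • dlV i from (Finset.sum_subset (Finset.subset_univ F)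
          fun i _ hi => by rw [hzero i (by simpa [F] using hi), smul_zero]).symm]
        symm
        refine Finset.sum_bij_ne_zero (fun i hi _ => e ⟨i, (Finset.mem_filter.1 hi).2⟩)
          (fun _ _ _ => Finset.mem_univ _) (fun i _ _ k _ _ hik => congrArg Subtype.val (he hik))
          (fun j _ hj => ?_) (fun i hi _ => ?_)
        · by_cases hjT : ∃ T, e T = j
          · obtain ⟨T, rfl⟩ := hjT
            refine ⟨T.1, Finset.mem_filter.2 ⟨Finset.mem_univ _, T.2⟩, ?_, rfl⟩
            simpa only [bV, b, hinv, Option.elim_some, hdlres] using hj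
          · exact absurd (by simp [show inv j = none from dif_neg hjT]) hj
        · simp only [bV, b, hinv, Option.elim_some, hdlres]
  · have hx0 : x ∈ U0 D := mem_U0.2 fun i hi => hx ⟨⟨i, hi⟩⟩
    obtain ⟨U, m, hxU, ⟨eU⟩, -⟩ := S5019.result f Ω d hd x
    obtain ⟨b, hb⟩ := exists_basis_of_iso Ω eU
    let W := U ⊓ U0 D
    refine ⟨W, m, ⟨hxU, hx0⟩, nonempty_iso_of_basis Λ.L
      (fun j => Λ.ι.app W (Ω.presheaf.map (homOfLE (inf_le_left : W ≤ U)).op (b j))) fun V h hV => ?_⟩
    have hres0 : ∀ (s : Γ(Λ.L, V)) i, (Λ.res i).app V s = 0 := fun s i => by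
      obtain ⟨a, ha⟩ := cls_surjective hV i ((Λ.res i).app V s)
      rw [← ha]
      refine cls_eq_zero hV ?_
      rw [((isChart_one (d := d) (W := V) fun y hy => (h hy).2) V hV le_rfl).ideal i, rs, map_one,
        Ideal.span_singleton_one]
      trivial
    have hι : Function.Bijective (Λ.ι.app V) :=
      ⟨ι_injective Λ V, fun s => logMod_mem_range hd hD Λ (hres0 s)⟩
    convert hι.comp (hb V (h.trans inf_le_left)) using 1
    funext c
    simp only [Function.comp_apply, map_sum, Scheme.Modules.Hom.app_smul]
    refine Finset.sum_congr rfl fun j _ => ?_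
    rw [← app_mapM, map_mapM]

end Groth.Agent.H27LogNCD
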